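import Mathlib
import Cfsg.Agent.H218.Glob
import Cfsg.Agent.S0058
import Cfsg.Agent.EvenType.StrongP
import Cfsg.Agent.H775.PU.Bound_m3
import Cfsg.Agent.H802.FusEss
import Cfsg.Agent.H765.D3.Sub
import Cfsg.Agent.Schreier.Tools2
import Cfsg.Agent.S0012
import Cfsg.Prelude.Def_Amalgam
import Cfsg.Agent.S0013
import Cfsg.Agent.H752.Mp
import Cfsg.Agent.H781.Realized
import Cfsg.Agent.FastGrp
import Cfsg.Agent.Prune
set_option linter.all false

section
prune_inst 0x7ffceefbabf8addfffff7fffaffcdffdfdbcbffff6fffdfbffe06bfffbff6b27cfe5fbbf6befd8fedfd6e0bc14f87b03f97eea3feb6bdc7fffff5ff45ffbff9fedffbd0d71d6bc3e1ffc6ffffbf077ce7f3fffffffffffffffffffffffffffffffffffffffff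

-- part: H218/Fus/PM
section
prune_inst 0x1000010051000000000005000000000004000090000000000000004008080000000000410010000000900a8040050020000800000008000000000000000001200000000010340c00300000000002000000000000000000000000000000000000000000000
set_option linter.all false
open scoped Cfsg.Agent.FastGrp

-- part: H218/Fus/P
section
/-!
# Offenders in groups with a strongly `p`-embedded subgroup: `|A| ≤ |M : C_M(A)|` and `|A| ≤ |[M, A]|`

`G` finite, `X < G` strongly `p`-embedded (elementwise: `q ∈ X` a nontrivial `p`-element, `g ∉ X` ⇒ `g q g⁻¹ ∉ X`),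
`M` a finite `G`-module of exponent `p` such that nontrivial `p`-elements act nontrivially, `A ≤ X` elementary abelian.
-/

set_option autoImplicit false
set_option linter.unusedSectionVars false
set_option linter.unusedVariables false

namespace Cfsg.Agent.H218.Fus

open Cfsg.Agent.H218.Count Cfsg.Agent.H218.CountQ Cfsg.Agent.H218.Glob

section Repl

variable {G M : Type*} [Group G] [Finite G] [AddCommGroup M] [Finite M] [DistribMulAction G M]

theorem add_card_le {B₁ B₂ B₃ : AddSubgroup M} (h₁ : B₁ ≤ B₃) (h₂ : B₂ ≤ B₃) :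
    Nat.card B₁ * Nat.card B₂ ≤ Nat.card (B₁ ⊓ B₂ : AddSubgroup M) * Nat.card B₃ := by
  have e1 : Nat.card (B₁ ⊓ B₂ : AddSubgroup M) * B₂.relIndex B₁ = Nat.card B₁ := by
    have h := AddSubgroup.relIndex_mul_relIndex (⊥ : AddSubgroup M) (B₁ ⊓ B₂) B₁ bot_le inf_le_left
    rw [AddSubgroup.relIndex_bot_left, AddSubgroup.relIndex_bot_left, AddSubgroup.inf_relIndex_left] at h
    exact h
  have e2 : Nat.card B₂ * B₂.relIndex B₃ = Nat.card B₃ := by
    have h := AddSubgroup.relIndex_mul_relIndex (⊥ : AddSubgroup M) B₂ B₃ bot_le h₂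
    rw [AddSubgroup.relIndex_bot_left, AddSubgroup.relIndex_bot_left] at h
    exact h
  have e3 : B₂.relIndex B₁ ≤ B₂.relIndex B₃ := by
    refine AddSubgroup.relIndex_le_of_le_right h₁ ?_
    intro h0
    rw [h0, mul_zero] at e2
    exact (Nat.card_pos (α := B₃)).ne e2
  calc Nat.card B₁ * Nat.card B₂ = Nat.card (B₁ ⊓ B₂ : AddSubgroup M) * (Nat.card B₂ * B₂.relIndex B₁) := by
        rw [← e1]; ring
    _ ≤ Nat.card (B₁ ⊓ B₂ : AddSubgroup M) * (Nat.card B₂ * B₂.relIndex B₃) := by gcongr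
    _ = _ := by rw [e2]

/-- a nontrivial `p`-group has a nonzero fixed point on a nonzero finite module of exponent `p` -/
theorem exists_fixed {p : ℕ} [Fact p.Prime] {A : Type*} [Group A] {Q : Type*} [AddCommGroup Q] [Finite Q]
    [DistribMulAction A Q] (hA : IsPGroup p A) (pQ : ∀ m : Q, p • m = 0) (hQ : ∃ q : Q, q ≠ 0) :
    ∃ q : Q, q ≠ 0 ∧ ∀ a : A, a • q = q := by
  classical
  have h1 : p ∣ Nat.card Q := by
    obtain ⟨q, hq⟩ := hQ
    have h2 : addOrderOf q = p := addOrderOf_eq_prime (pQ q) hq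
    rw [← h2]
    exact addOrderOf_dvd_natCard q
  have h2 := hA.card_modEq_card_fixedPoints Q
  have h3 : p ∣ Nat.card (MulAction.fixedPoints A Q) := (Nat.modEq_zero_iff_dvd.1 (h2.symm.trans (Nat.modEq_zero_iff_dvd.2 h1)))
  have h4 : 1 < Nat.card (MulAction.fixedPoints A Q) :=
    lt_of_lt_of_le (Fact.out : p.Prime).one_lt (Nat.le_of_dvd (Nat.card_pos_iff.2 ⟨⟨⟨0, fun a => smul_zero a⟩⟩, inferInstance⟩) h3)
  have : Nontrivial (MulAction.fixedPoints A Q) := Finite.one_lt_card_iff_nontrivial.1 h4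
  obtain ⟨⟨q, hq⟩, hq0⟩ := exists_ne (⟨0, fun a => smul_zero a⟩ : MulAction.fixedPoints A Q)
  exact ⟨q, fun h => hq0 (Subtype.ext h), fun a => hq a⟩

end Repl

section Main

variable {G M : Type*} [Group G] [Finite G] [AddCommGroup M] [Finite M] [DistribMulAction G M]
  {p : ℕ} [hp : Fact p.Prime] {X A : Subgroup G}

/-- strongly `p`-embedded, elementwise -/
structure SE (p : ℕ) (X : Subgroup G) : Prop where
  ne : ∃ x, x ∉ X
  se : ∀ q ∈ X, q ≠ 1 → (∃ k, q ^ p ^ k = 1) → ∀ g, g ∉ X → g * q * g⁻¹ ∉ X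

theorem isP (hAp : ∀ a ∈ A, a ^ p = 1) : IsPGroup p A := fun a => ⟨1, Subtype.ext (by simpa using hAp a a.2)⟩

end Main

end Cfsg.Agent.H218.Fus
end

-- part: H218/Fus/PK
section
/-!
# The inequality with a kernel of order prime to `p`, and its dual

Main theorems: `card_mul_le`, `card_le_index`, `card_le_comm`; `SE` from `IsStronglyPEmbedded`: `se_of`.
-/

set_option autoImplicit false
set_option linter.unusedSectionVars false
set_option linter.unusedVariables false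

namespace Cfsg.Agent.H218.Fus

open Cfsg.Agent.H218.Count Cfsg.Agent.H218.CountQ Cfsg.Agent.H218.Glob

section Map

variable {G G' : Type*} [Group G] [Finite G] [Group G'] {p : ℕ} [hp : Fact p.Prime] {X : Subgroup G}

/-- a `p`-element of the image of `X` lifts to a `p`-element of `X` -/
theorem exists_lift (φ : G →* G') {q₀ : G} (hq₀ : q₀ ∈ X) (hq : ∃ k, (φ q₀) ^ p ^ k = 1) :
    ∃ q ∈ X, φ q = φ q₀ ∧ ∃ k, q ^ p ^ k = 1 := by
  obtain ⟨k, hk⟩ := hq
  obtain ⟨i, m, hm, hN⟩ := Nat.exists_eq_pow_mul_and_not_dvd (orderOf_pos q₀).ne' p hp.out.ne_one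
  have hcop : Nat.Coprime m (p ^ k) := ((hp.out.coprime_iff_not_dvd.2 hm).pow_left k).symm
  obtain ⟨s, hs1, hs2⟩ := Nat.chineseRemainder hcop 0 1
  refine ⟨q₀ ^ s, pow_mem hq₀ s, ?_, i, ?_⟩
  · rw [map_pow]
    have h1 : (φ q₀) ^ s = (φ q₀) ^ 1 := by
      rw [pow_eq_pow_iff_modEq]
      exact hs2.of_dvd (orderOf_dvd_of_pow_eq_one hk)
    rw [h1, pow_one]
  · rw [← pow_mul]
    apply orderOf_dvd_iff_pow_eq_one.1
    rw [hN, mul_comm s]
    exact Nat.mul_dvd_mul_left _ (Nat.modEq_zero_iff_dvd.1 hs1)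

theorem mem_of_map {φ : G →* G'} (hK : φ.ker ≤ X) {g : G} (h : φ g ∈ X.map φ) : g ∈ X := by
  obtain ⟨y, hy, hyg⟩ := h
  have h1 : g * y⁻¹ ∈ φ.ker := by
    rw [MonoidHom.mem_ker, map_mul, map_inv, hyg, mul_inv_cancel]
  have h2 := mul_mem (hK h1) hy
  rwa [inv_mul_cancel_right] at h2

theorem SE.map (hX : SE p X) {φ : G →* G'} (hφ : Function.Surjective φ) (hK : φ.ker ≤ X) : SE p (X.map φ) where
  ne := by
    obtain ⟨x, hx⟩ := hX.ne
    exact ⟨φ x, fun h => hx (mem_of_map hK h)⟩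
  se := by
    rintro _ ⟨q₀, hq₀, rfl⟩ hq1 hqp g' hg' hmem
    obtain ⟨g, rfl⟩ := hφ g'
    obtain ⟨q, hq, hqq, hqk⟩ := exists_lift φ hq₀ hqp
    have hg : g ∉ X := fun h => hg' ⟨g, h, rfl⟩
    have hq1' : q ≠ 1 := by
      rintro rfl
      rw [map_one] at hqq
      exact hq1 hqq.symm
    apply hX.se q hq hq1' hqk g hg
    apply mem_of_map hK
    rw [map_mul, map_mul, map_inv, hqq]
    exact hmem

/-- centralizers of nontrivial `p`-elements of `X` are in `X` -/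
theorem SE.cent (hX : SE p X) {q : G} (hq : q ∈ X) (hq1 : q ≠ 1) (hqp : ∃ k, q ^ p ^ k = 1) {g : G}
    (hg : g * q = q * g) : g ∈ X := by
  by_contra hcon
  apply hX.se q hq hq1 hqp g hcon
  rw [hg, mul_inv_cancel_right]
  exact hq

/-- a normal `p'`-subgroup is in `X` if `X` contains a noncyclic abelian group of exponent `p` -/
theorem SE.normal_le (hX : SE p X) {A : Subgroup G} (hAX : A ≤ X) (hAc : ∀ a ∈ A, ∀ b ∈ A, a * b = b * a)
    (hAp : ∀ a ∈ A, a ^ p = 1) (hcy : ¬ IsCyclic A) {K : Subgroup G} (hAK : A ≤ Subgroup.normalizer (K : Set G))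
    (hK : ¬ p ∣ Nat.card K) : K ≤ X := by
  have : IsMulCommutative A := ⟨⟨fun a b => Subtype.ext (hAc a a.2 b b.2)⟩⟩
  obtain ⟨n, hn⟩ := IsPGroup.iff_card.1 (isP hAp)
  have hcop : (Nat.card A).Coprime (Nat.card K) := by
    rw [hn]
    exact ((hp.out.coprime_iff_not_dvd.2 hK).pow_left n)
  rw [← Cfsg.Agent.S0058.result A K hcy hAK hcop]
  refine iSup₂_le ?_
  rintro a ⟨ha, ha1⟩ g ⟨hg, hg2⟩
  exact hX.cent (hAX ha) ha1 ⟨1, by rw [pow_one]; exact hAp a ha⟩ (Subgroup.mem_centralizer_singleton_iff.1 hg2)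

end Map

section Main

variable {G M : Type*} [Group G] [Finite G] [AddCommGroup M] [Finite M] [DistribMulAction G M]
  {p : ℕ} [hp : Fact p.Prime] {X A : Subgroup G}

/-- the image of `G` in the symmetric group acts -/
@[reducible] def rangeAct (G M : Type*) [Group G] [AddCommGroup M] [DistribMulAction G M] :
    DistribMulAction (MulAction.toPermHom G M).range M where
  smul σ m := (σ : Equiv.Perm M) m
  one_smul _ := rfl
  mul_smul _ _ _ := rfl
  smul_zero := by rintro ⟨_, g, rfl⟩; exact smul_zero g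
  smul_add := by rintro ⟨_, g, rfl⟩ x y; exact smul_add g x y

end Main

section Dual

variable {G M : Type*} [Group G] [AddCommGroup M] [DistribMulAction G M] {p : ℕ}

/-- the dual action -/
@[reducible] def dualAct (G M : Type*) [Group G] [AddCommGroup M] [DistribMulAction G M] (p : ℕ) :
    DistribMulAction G (M →+ ZMod p) where
  smul g f := f.comp (DistribSMul.toAddMonoidHom M g⁻¹)
  one_smul f := by
    ext m
    show f ((1 : G)⁻¹ • m) = f m
    rw [inv_one, one_smul]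
  mul_smul g h f := by
    ext m
    show f ((g * h)⁻¹ • m) = f (h⁻¹ • g⁻¹ • m)
    rw [mul_inv_rev, mul_smul]
  smul_zero g := rfl
  smul_add g f f' := rfl

theorem card_dual' (p : ℕ) [Fact p.Prime] {Q : Type*} [AddCommGroup Q] [Finite Q] [Module (ZMod p) Q] :
    Nat.card (Q →+ ZMod p) = Nat.card Q := by
  have h1 : Nat.card (Q →+ ZMod p) = Nat.card (Q →ₗ[ZMod p] ZMod p) :=
    Nat.card_congr (AddMonoidHom.toZModLinearMapEquiv p).toEquiv
  have h2 : Module.Finite (ZMod p) Q := Module.Finite.of_finite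
  have h3 := Subspace.dual_finrank_eq (K := ZMod p) (V := Q)
  have h4 := Module.natCard_eq_pow_finrank (K := ZMod p) (V := Q)
  have h5 := Module.natCard_eq_pow_finrank (K := ZMod p) (V := Q →ₗ[ZMod p] ZMod p)
  rw [h1, h4, h5]
  exact congrArg _ h3

theorem exists_sep' (p : ℕ) [Fact p.Prime] {Q : Type*} [AddCommGroup Q] [Finite Q] [Module (ZMod p) Q]
    {v : Q} (h : ∀ f : Q →+ ZMod p, f v = 0) : v = 0 := by
  apply (Module.forall_dual_apply_eq_zero_iff (ZMod p) v).1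
  intro f
  exact h (LinearMap.toAddMonoidHom f)

theorem card_dual (p : ℕ) [Fact p.Prime] {Q : Type*} [AddCommGroup Q] [Finite Q] (pQ : ∀ m : Q, p • m = 0) :
    Nat.card (Q →+ ZMod p) = Nat.card Q := by
  let := AddCommGroup.zmodModule pQ
  exact card_dual' p

theorem exists_sep (p : ℕ) [Fact p.Prime] {Q : Type*} [AddCommGroup Q] [Finite Q] (pQ : ∀ m : Q, p • m = 0)
    {v : Q} (h : ∀ f : Q →+ ZMod p, f v = 0) : v = 0 := by
  let := AddCommGroup.zmodModule pQ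
  exact exists_sep' p h

/-- `[M, A]` -/
def cm (M : Type*) [AddCommGroup M] [DistribMulAction G M] (A : Subgroup G) : AddSubgroup M :=
  AddSubgroup.closure {x | ∃ a ∈ A, ∃ u : M, x = a • u - u}

variable [Finite G] [Finite M] [hp : Fact p.Prime] {X A : Subgroup G}

end Dual

end Cfsg.Agent.H218.Fus
end

-- part: H218/Fus/PM
section
/-!
# The inequalities modulo a normal subgroup acting trivially
-/

set_option autoImplicit false
set_option linter.unusedSectionVars false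
set_option linter.unusedVariables false

namespace Cfsg.Agent.H218.Fus

open Cfsg.Agent.H218.Count Cfsg.Agent.H218.CountQ Cfsg.Agent.H218.Glob

section Mod

variable {G M : Type*} [Group G] [Finite G] [AddCommGroup M] [Finite M] [DistribMulAction G M]
  {p : ℕ} [hp : Fact p.Prime] {I X A : Subgroup G}

/-- strongly `p`-embedded modulo `I` -/
structure SEm (p : ℕ) (I X : Subgroup G) : Prop where
  le : I ≤ X
  ne : ∃ x, x ∉ X
  se : ∀ q ∈ X, q ∉ I → (∃ k, q ^ p ^ k = 1) → ∀ g, g ∉ X → g * q * g⁻¹ ∉ X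

theorem SEm.quot [I.Normal] (hX : SEm p I X) : SE p (X.map (QuotientGroup.mk' I)) where
  ne := by
    obtain ⟨x, hx⟩ := hX.ne
    exact ⟨QuotientGroup.mk' I x, fun h => hx (mem_of_map (by rw [QuotientGroup.ker_mk']; exact hX.le) h)⟩
  se := by
    have hK : (QuotientGroup.mk' I).ker ≤ X := by rw [QuotientGroup.ker_mk']; exact hX.le
    rintro _ ⟨q₀, hq₀, rfl⟩ hq1 hqp g' hg' hmem
    obtain ⟨g, rfl⟩ := QuotientGroup.mk'_surjective I g'
    obtain ⟨q, hq, hqq, hqk⟩ := exists_lift (QuotientGroup.mk' I) hq₀ hqp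
    have hg : g ∉ X := fun h => hg' ⟨g, h, rfl⟩
    have hq1' : q ∉ I := by
      intro h
      have h1 : QuotientGroup.mk' I q = 1 := (QuotientGroup.eq_one_iff q).2 h
      rw [hqq] at h1
      exact hq1 h1
    apply hX.se q hq hq1' hqk g hg
    apply mem_of_map hK
    rw [map_mul, map_mul, map_inv, hqq]
    exact hmem

/-- the action of the quotient -/
@[reducible] def modAct (M : Type*) [AddCommGroup M] [DistribMulAction G M] (I : Subgroup G) [I.Normal]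
    (hI : ∀ g ∈ I, ∀ m : M, g • m = m) : DistribMulAction (G ⧸ I) M where
  smul x m := QuotientGroup.lift I (MulAction.toPermHom G M) (fun g hg => by
    ext m
    exact hI g hg m) x m
  one_smul m := by
    show QuotientGroup.lift I (MulAction.toPermHom G M) _ 1 m = m
    rw [map_one]; rfl
  mul_smul x y m := by
    show QuotientGroup.lift I (MulAction.toPermHom G M) _ (x * y) m = _
    rw [map_mul]; rfl
  smul_zero x := by
    obtain ⟨g, rfl⟩ := QuotientGroup.mk_surjective x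
    exact smul_zero g
  smul_add x m n := by
    obtain ⟨g, rfl⟩ := QuotientGroup.mk_surjective x
    exact smul_add g m n

end Mod

end Cfsg.Agent.H218.Fus
end
end

-- part: H218/Fus/EssLib
section
set_option linter.all false
open scoped Cfsg.Agent.FastGrp

/-!
# Lemmas about `Ess` (helper756's structure of an essential subgroup)
-/

set_option autoImplicit false
set_option linter.unusedVariables false

namespace Cfsg.Agent.H218.Fus

open Cfsg Cfsg.FusionSystem Cfsg.Agent.H756.PU Cfsg.Agent.H802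

variable {Ω : Type*} [Group Ω] {S E : Subgroup Ω} {p : ℕ} {Γ : Subgroup (MulAut E)}

theorem finE (h : Ess S E p Γ) : Finite E := by
  have := h.fin
  exact finite_of_le h.E_le

theorem inn_le_T (h : Ess S E p Γ) : Inn E ≤ autInducedBy S E := inn_le_autInducedBy h.E_le

theorem inn_le_Γ (h : Ess S E p Γ) : Inn E ≤ Γ := (inn_le_T h).trans h.indu

theorem mem_of_inn (h : Ess S E p Γ) {x : Ω} (hx : x ∈ S) {α : MulAut E} (hα : IsC x α) (hI : α ∈ Inn E) : x ∈ E := by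
  refine mem_of_conj_mem_inn h.E_le ?_ hx hα hI
  rintro y ⟨hy, hyc⟩
  exact h.cent y hy fun e he => (Subgroup.mem_centralizer_iff.1 hyc e he).symm

theorem isPGroup_T (h : Ess S E p Γ) : IsPGroup p (autInducedBy S E) := isPGroup_autInducedBy h.pgr E

/-- a Sylow subgroup of `Γ` -/
theorem exists_sylow (h : Ess S E p Γ) : ∃ R : Sylow p Γ, (R : Subgroup Γ) = (autInducedBy S E).subgroupOf Γ := by
  classical
  have := finE h
  have hp : Fact p.Prime := ⟨h.pp⟩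
  have hTp : IsPGroup p ((autInducedBy S E).subgroupOf Γ) := (isPGroup_T h).comap_subtype
  obtain ⟨R, hR⟩ := hTp.exists_le_sylow
  refine ⟨R, ?_⟩
  obtain ⟨g, hg, hgR⟩ := h.syl ((R : Subgroup Γ).map Γ.subtype) (Subgroup.map_subtype_le _) (R.isPGroup'.map _)
  -- cardinality
  symm
  apply Subgroup.eq_of_le_of_card_ge hR
  refine Nat.card_le_card_of_injective (fun x : (R : Subgroup Γ) => (⟨⟨g * (x : Γ) * g⁻¹, ?_⟩, ?_⟩ :
    (autInducedBy S E).subgroupOf Γ)) ?_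
  · exact mul_mem (mul_mem hg (x : Γ).2) (inv_mem hg)
  · rw [Subgroup.mem_subgroupOf]
    exact hgR _ ⟨x, x.2, rfl⟩
  · intro x y hxy
    have h1 : g * ((x : Γ) : MulAut E) * g⁻¹ = g * ((y : Γ) : MulAut E) * g⁻¹ :=
      congrArg (fun z : (autInducedBy S E).subgroupOf Γ => ((z : Γ) : MulAut E)) hxy
    have h2 : ((x : Γ) : MulAut E) = ((y : Γ) : MulAut E) := mul_left_cancel (mul_right_cancel h1)
    exact Subtype.ext (Subtype.ext h2)

/-- the subgroup `H` of `spe` contains the normalizer of `Aut_S(E)` -/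
theorem norm_le {H : Subgroup (MulAut E)} (h : Ess S E p Γ) (hTH : autInducedBy S E ≤ H)
    (hTI : ¬ autInducedBy S E ≤ Inn E)
    (hse : ∀ g ∈ Γ, g ∉ H → ∀ x ∈ H, g * x * g⁻¹ ∈ H → (∃ k : ℕ, x ^ p ^ k = 1) → x ∈ Inn E)
    {g : MulAut E} (hg : g ∈ Γ) (hgn : ∀ x ∈ autInducedBy S E, g * x * g⁻¹ ∈ autInducedBy S E) : g ∈ H := by
  by_contra hcon
  apply hTI
  intro x hx
  obtain ⟨k, hk⟩ := isPGroup_T h ⟨x, hx⟩
  exact hse g hg hcon x (hTH hx) (hTH (hgn x hx)) ⟨k, congrArg Subtype.val hk⟩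

/-- a normal subgroup of `Γ` containing `Aut_S(E)` is not in `H` -/
theorem exists_not_mem {H : Subgroup (MulAut E)} (h : Ess S E p Γ) (hHΓ : H ≤ Γ) (hHne : H ≠ Γ)
    (hTH : autInducedBy S E ≤ H) (hTI : ¬ autInducedBy S E ≤ Inn E)
    (hse : ∀ g ∈ Γ, g ∉ H → ∀ x ∈ H, g * x * g⁻¹ ∈ H → (∃ k : ℕ, x ^ p ^ k = 1) → x ∈ Inn E)
    {N : Subgroup (MulAut E)} (hNΓ : N ≤ Γ) (hTN : autInducedBy S E ≤ N)
    (hN : ∀ g ∈ Γ, ∀ x ∈ N, g * x * g⁻¹ ∈ N) : ∃ g ∈ N, g ∉ H := by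
  classical
  by_contra hcon
  push Not at hcon
  have := finE h
  have hp : Fact p.Prime := ⟨h.pp⟩
  obtain ⟨R, hR⟩ := exists_sylow h
  have hNn : (N.subgroupOf Γ).Normal := by
    constructor
    intro x hx g
    rw [Subgroup.mem_subgroupOf] at hx ⊢
    exact hN g g.2 x hx
  have h1 := Sylow.normalizer_sup_eq_top' (N := N.subgroupOf Γ) R (by
    rw [hR]
    intro x hx
    rw [Subgroup.mem_subgroupOf] at hx ⊢
    exact hTN hx)
  apply hHne
  apply le_antisymm hHΓ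
  intro g hg
  have h2 : (⟨g, hg⟩ : Γ) ∈ H.subgroupOf Γ := by
    have h3 : Subgroup.normalizer ((R : Subgroup Γ) : Set Γ) ⊔ N.subgroupOf Γ ≤ H.subgroupOf Γ := by
      refine sup_le ?_ ?_
      · intro x hx
        rw [Subgroup.mem_subgroupOf]
        refine norm_le h hTH hTI hse x.2 fun y hy => ?_
        have h4 := (Subgroup.mem_normalizer_iff.1 hx ⟨y, h.indu hy⟩).1 (by
          rw [hR, Subgroup.mem_subgroupOf]; exact hy)
        rw [hR, Subgroup.mem_subgroupOf] at h4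
        exact h4
      · intro x hx
        rw [Subgroup.mem_subgroupOf] at hx ⊢
        exact hcon x hx
    exact h3 (h1 ▸ Subgroup.mem_top _)
  rwa [Subgroup.mem_subgroupOf] at h2

/-- `O_p(N / Inn(E)) = 1` for a normal subgroup `N` of `Γ` containing `Aut_S(E)` -/
theorem le_inn {N : Subgroup (MulAut E)} (h : Ess S E p Γ) (hNΓ : N ≤ Γ) (hTN : autInducedBy S E ≤ N)
    (hN : ∀ g ∈ Γ, ∀ x ∈ N, g * x * g⁻¹ ∈ N) {K : Subgroup (MulAut E)} (hKN : K ≤ N)
    (hK : ∀ g ∈ N, ∀ x ∈ K, g * x * g⁻¹ ∈ K) (hKp : IsPGroup p K) : K ≤ Inn E := by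
  classical
  have := finE h
  have hp : Fact p.Prime := ⟨h.pp⟩
  obtain ⟨H, hHΓ, hHne, hTH, hTI, hse⟩ := h.spe
  obtain ⟨g, hgN, hgH⟩ := exists_not_mem h hHΓ hHne hTH hTI hse hNΓ hTN hN
  -- `K ≤ T`
  obtain ⟨R, hR⟩ := exists_sylow h
  have hKT : K ≤ autInducedBy S E := by
    have h1 : IsPGroup p (K.subgroupOf Γ) := hKp.comap_subtype
    have h2 : IsPGroup p (K.subgroupOf Γ ⊔ (R : Subgroup Γ) : Subgroup Γ) := by
      refine IsPGroup.to_sup_of_normal_left' h1 R.isPGroup' ?_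
      intro x hx
      rw [hR, Subgroup.mem_subgroupOf] at hx
      rw [Subgroup.mem_normalizer_iff]
      intro y
      rw [Subgroup.mem_subgroupOf, Subgroup.mem_subgroupOf]
      constructor
      · intro hy
        exact hK _ (hTN hx) _ hy
      · intro hy
        have h3 := hK _ (inv_mem (hTN hx)) _ hy
        have e : (x : MulAut E)⁻¹ * ((x * y * x⁻¹ : Γ) : MulAut E) * ((x : MulAut E)⁻¹)⁻¹ = (y : MulAut E) := by
          push_cast
          group
        rwa [e] at h3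
    have h3 := R.is_maximal' h2 le_sup_right
    intro k hk
    have h4 : (⟨k, hNΓ (hKN hk)⟩ : Γ) ∈ (R : Subgroup Γ) := by
      have h5 : (⟨k, hNΓ (hKN hk)⟩ : Γ) ∈ (K.subgroupOf Γ ⊔ (R : Subgroup Γ) : Subgroup Γ) :=
        Subgroup.mem_sup_left (Subgroup.mem_subgroupOf.2 hk)
      rw [h3] at h5
      exact h5
    rw [hR, Subgroup.mem_subgroupOf] at h4
    exact h4
  intro k hk
  obtain ⟨n, hn⟩ := hKp ⟨k, hk⟩
  exact hse g (hNΓ hgN) hgH k (hTH (hKT hk)) (hTH (hKT (hK g hgN k hk))) ⟨n, congrArg Subtype.val hn⟩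

/-- `O_p(Γ / Inn(E)) = 1` -/
theorem le_inn_Γ (h : Ess S E p Γ) {K : Subgroup (MulAut E)} (hKΓ : K ≤ Γ)
    (hK : ∀ g ∈ Γ, ∀ x ∈ K, g * x * g⁻¹ ∈ K) (hKp : IsPGroup p K) : K ≤ Inn E :=
  le_inn h le_rfl h.indu (fun g hg x hx => mul_mem (mul_mem hg hx) (inv_mem hg)) hKΓ hK hKp

/-- elements of `N_S(E)` induce elements of `Aut_S(E)` -/
theorem exists_isC (h : Ess S E p Γ) {x : Ω} (hx : x ∈ normalizerIn S E) :
    ∃ α ∈ autInducedBy S E, IsC x α := by
  obtain ⟨α, hα⟩ := exists_conjAut hx.2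
  exact ⟨α, (mem_autInducedBy_iff S E α).2 ⟨x, hx.1, hα⟩, hα⟩

end Cfsg.Agent.H218.Fus
end

-- part: H802/TE/Defs
section
set_option linter.all false
open scoped Cfsg.Agent.FastGrp

/-!
# S5261, part E: the essential subgroups of a saturated fusion system over `Sy φ` are `Q1`, `Q2`

Exact statements. `Γ` is `Aut_F(E)`; only the structure `Ess` of `H756.PU.Engine` is used. Paper proofs:
`outputs/live/tools/plans/S5261.md`.
-/

set_option autoImplicit false
set_option linter.unusedSectionVars false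

namespace Cfsg.Agent.H802.TE

open Cfsg Cfsg.FusionSystem Cfsg.Agent.H756.PU
open Cfsg.Agent.H765.D3 Cfsg.Agent.H765.D3.Sy
open Cfsg.Agent.Hex.Defs (sh cr nm tr)

universe u

/-! ### Engine -/

section Engine

/-- `Φ(E)` as a subgroup of the ambient group -/
def Phi {Ω : Type*} [Group Ω] (E : Subgroup Ω) : Subgroup Ω := (frattini E).map E.subtype

/-- (F) elementary facts on `Φ(E)` for a finite `p`-group `E`: `E/Φ(E)` is elementary abelian, `Φ(E)` is the least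
such subgroup, it is invariant under every automorphism of `E`, and normalized by whatever normalizes `E`. -/
def StPhi : Prop :=
  ∀ {Ω : Type u} [Group Ω] (E : Subgroup Ω) (p : ℕ), p.Prime → Finite E → IsPGroup p E →
    Phi E ≤ E ∧ Com E E (Phi E) ∧ (∀ x ∈ E, x ^ p ∈ Phi E) ∧
    (∀ N : Subgroup Ω, N ≤ E → Com E E N → (∀ x ∈ E, x ^ p ∈ N) → Phi E ≤ N) ∧
    (∀ Γ : Subgroup (MulAut E), Inv Γ (Phi E)) ∧
    (∀ x : Ω, x ∈ Subgroup.normalizer (E : Set Ω) → ∀ y ∈ Phi E, x * y * x⁻¹ ∈ Phi E)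

/-- (P2) `V = E/Φ(E)`: `|A|² ≤ |[V,A]| |[V,B]|` for `p`-subgroups `A`, `B ≠ 1` of `Out_S(E)`. `W` (`W'`) is any subgroup
of `E` containing all `[a, e]`, `Y ≤ Φ(E)`. -/
def StP2 : Prop :=
  ∀ {Ω : Type u} [Group Ω] {S E : Subgroup Ω} {p : ℕ} {Γ : Subgroup (MulAut E)}, Ess S E p Γ →
    ∀ A B W W' Y Y' : Subgroup Ω, A ≤ normalizerIn S E → B ≤ normalizerIn S E → ¬ B ≤ E → W ≤ E → W' ≤ E →
    Com A E W → Com B E W' → Y ≤ Phi E → Y' ≤ Phi E →
    (E.relIndex A) ^ 2 ≤ Y.relIndex W * Y'.relIndex W'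

/-- (P2c) the same with `B = ⟨b⟩` cyclic, where `|[V,b]| = |V : C_V(b)|`: `X ≤ E` satisfies `[b, X] ≤ Φ(E)`. -/
def StP2c : Prop :=
  ∀ {Ω : Type u} [Group Ω] {S E : Subgroup Ω} {p : ℕ} {Γ : Subgroup (MulAut E)}, Ess S E p Γ →
    ∀ (A W Y X : Subgroup Ω) (b : Ω), A ≤ normalizerIn S E → b ∈ normalizerIn S E → b ∉ E → W ≤ E →
    Com A E W → Y ≤ Phi E → X ≤ E → (∀ x ∈ X, b * x * b⁻¹ * x⁻¹ ∈ Phi E) →
    (E.relIndex A) ^ 2 ≤ Y.relIndex W * X.relIndex E

/-- (P2w) the dual version: `|A|² ≤ |V : C_V(A)| |V : C_V(B)|`. -/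
def StP2w : Prop :=
  ∀ {Ω : Type u} [Group Ω] {S E : Subgroup Ω} {p : ℕ} {Γ : Subgroup (MulAut E)}, Ess S E p Γ →
    ∀ A B X X' : Subgroup Ω, A ≤ normalizerIn S E → B ≤ normalizerIn S E → ¬ B ≤ E → X ≤ E → X' ≤ E →
    Com A X (Phi E) → Com B X' (Phi E) → (E.relIndex A) ^ 2 ≤ X.relIndex E * X'.relIndex E

/-- (BD) `|A|² ≤ |V|` (S3083) -/
def StBd : Prop :=
  ∀ {Ω : Type u} [Group Ω] {S E : Subgroup Ω} {p : ℕ} {Γ : Subgroup (MulAut E)}, Ess S E p Γ →
    ∀ A Y : Subgroup Ω, A ≤ normalizerIn S E → Y ≤ Phi E → (E.relIndex A) ^ 2 ≤ Y.relIndex E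

/-- (CH) chains of invariant subgroups from `E` down to a subgroup of `Φ(E)` -/
def StCh : Prop :=
  ∀ {Ω : Type u} [Group Ω] {S E : Subgroup Ω} {p : ℕ} {Γ : Subgroup (MulAut E)}, Ess S E p Γ →
    ∀ (n : ℕ) (M : ℕ → Subgroup Ω), M 0 ≤ Phi E → M n = E → (∀ i ≤ n, Inv Γ (M i)) →
    (∀ i < n, M i ≤ M (i + 1)) → ∀ A : Subgroup Ω, A ≤ S → (∀ i < n, Com A (M (i + 1)) (M i)) → A ≤ E

/-- (HULL) if `[A, E] ≤ Y ≤ E` and `A ≰ E` then `[A, γ(y)] ≰ Φ(E)` for some `γ ∈ Γ`, `y ∈ Y`. -/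
def StHull : Prop :=
  ∀ {Ω : Type u} [Group Ω] {S E : Subgroup Ω} {p : ℕ} {Γ : Subgroup (MulAut E)}, Ess S E p Γ →
    ∀ A Y : Subgroup Ω, A ≤ S → Y ≤ E → Com A E Y → ¬ A ≤ E →
    ∃ γ ∈ Γ, ∃ y : E, (y : Ω) ∈ Y ∧ ∃ a ∈ A, a * (γ y : E) * a⁻¹ * ((γ y : E) : Ω)⁻¹ ∉ Phi E

/-- (L) `L = O^{p'}(Γ)`: again `Ess`, and it acts trivially on each invariant section on which `N_S(E)` is trivial. -/
def StL : Prop :=
  ∀ {Ω : Type u} [Group Ω] {S E : Subgroup Ω} {p : ℕ} {Γ : Subgroup (MulAut E)}, Ess S E p Γ →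
    ∃ L : Subgroup (MulAut E), L ≤ Γ ∧ Ess S E p L ∧
      ∀ N M : Subgroup Ω, Inv L N → Inv L M → N ≤ M → (∀ m ∈ M, ∀ n ∈ N, m * n * m⁻¹ ∈ N) →
        Com (normalizerIn S E) M N → ∀ γ ∈ L, ∀ m : E, (m : Ω) ∈ M → ((γ m : E) : Ω) * (m : Ω)⁻¹ ∈ N

/-- (CJ) conjugation by an element of `S` -/
def StConj : Prop :=
  ∀ {Ω : Type u} [Group Ω] {S E : Subgroup Ω} {p : ℕ} {Γ : Subgroup (MulAut E)}, Ess S E p Γ →
    ∀ g ∈ S, ∃ Γ' : Subgroup (MulAut (E.map (MulAut.conj g).toMonoidHom)),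
      Ess S (E.map (MulAut.conj g).toMonoidHom) p Γ'

/-- (CM) the commuting lemma modulo `Inn(E)` -/
def StCm : Prop :=
  ∀ {Ω : Type u} [Group Ω] {S E : Subgroup Ω} {p : ℕ} {Γ : Subgroup (MulAut E)}, Ess S E p Γ →
    ∀ (Γ0 : Subgroup (MulAut E)) (A : Subgroup Ω), A ≤ normalizerIn S E → ¬ A ≤ E →
    (∀ g ∈ Γ, g ∉ Γ0 → ∀ a ∈ A, ∀ b ∈ A, ∀ e : E, ∀ α β : MulAut E, IsC a α → IsC b β →
      (((α * (g * β * g⁻¹) * α⁻¹ * (g * β * g⁻¹)⁻¹) e : E) : Ω) * (e : Ω)⁻¹ ∈ Phi E) → Γ ≤ Γ0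

/-- (SEC) the inequality (P2) on an invariant elementary abelian section `M/N`, central in `E/N`, on which `Out_S(E)` is
faithful; some `A0/A0∩E` is elementary abelian of rank at least two. Commutator form. -/
def StSecC : Prop :=
  ∀ {Ω : Type u} [Group Ω] {S E : Subgroup Ω} {p : ℕ} {Γ : Subgroup (MulAut E)}, Ess S E p Γ →
    ∀ N M A0 A B W W' : Subgroup Ω, Inv Γ N → Inv Γ M → N ≤ M → Com E M N → (∀ m ∈ M, m ^ p ∈ N) →
    (∀ x ∈ normalizerIn S E, (∀ m ∈ M, x * m * x⁻¹ * m⁻¹ ∈ N) → x ∈ E) →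
    A0 ≤ normalizerIn S E → Com A0 A0 E → (∀ x ∈ A0, x ^ p ∈ E) → p < E.relIndex A0 →
    A ≤ normalizerIn S E → B ≤ normalizerIn S E → ¬ B ≤ E → W ≤ M → W' ≤ M → Com A M W → Com B M W' →
    (E.relIndex A) ^ 2 ≤ N.relIndex W * N.relIndex W'

/-- (SEC) centralizer form -/
def StSecW : Prop :=
  ∀ {Ω : Type u} [Group Ω] {S E : Subgroup Ω} {p : ℕ} {Γ : Subgroup (MulAut E)}, Ess S E p Γ →
    ∀ N M A0 A B X X' : Subgroup Ω, Inv Γ N → Inv Γ M → N ≤ M → Com E M N → (∀ m ∈ M, m ^ p ∈ N) →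
    (∀ x ∈ normalizerIn S E, (∀ m ∈ M, x * m * x⁻¹ * m⁻¹ ∈ N) → x ∈ E) →
    A0 ≤ normalizerIn S E → Com A0 A0 E → (∀ x ∈ A0, x ^ p ∈ E) → p < E.relIndex A0 →
    A ≤ normalizerIn S E → B ≤ normalizerIn S E → ¬ B ≤ E → X ≤ M → X' ≤ M → Com A X N → Com B X' N →
    (E.relIndex A) ^ 2 ≤ X.relIndex M * X'.relIndex M

/-- the engine -/
structure Eng : Prop where
  phi : StPhi.{u}
  p2 : StP2.{u}
  p2c : StP2c.{u}
  p2w : StP2w.{u}
  bd : StBd.{u}
  ch : StCh.{u}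
  hull : StHull.{u}
  l : StL.{u}
  cj : StConj.{u}
  cm : StCm.{u}
  secC : StSecC.{u}
  secW : StSecW.{u}

end Engine

/-! ### The group `Sy φ` -/

section Sy

variable {F K : Type u} [Field F] [Field K] [Algebra F K]

/-- `R = U1 U3 U2 U4` -/
def R (φ : K ≃ₐ[F] K) [Cub φ] : Subgroup (Sy φ) where
  carrier := {x | x.x6 = 0 ∧ x.x5 = 0}
  one_mem' := ⟨rfl, rfl⟩
  mul_mem' {x y} hx hy := by
    simp only [Set.mem_ofPred_eq] at hx hy ⊢
    rw [mul_x6, mul_x5, hx.1, hx.2, hy.1, hy.2]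
    simp
  inv_mem' {x} hx := by
    simp only [Set.mem_ofPred_eq] at hx ⊢
    rw [inv_x6, inv_x5, hx.1, hx.2]
    simp

/-- `Cs s = {x ∈ Q2 | Tr(s x1) = Tr(s x5) = 0}` -/
def Cs (φ : K ≃ₐ[F] K) [Cub φ] (s : K) : Subgroup (Sy φ) where
  carrier := {x | x.x6 = 0 ∧ tr φ (s * x.x1) = 0 ∧ tr φ (s * x.x5) = 0}
  one_mem' := ⟨rfl, by simp [tr_zero], by simp [tr_zero]⟩
  mul_mem' {x y} hx hy := by
    simp only [Set.mem_ofPred_eq] at hx hy ⊢
    rw [mul_x6, mul_x5, mul_x1, hx.1, hy.1, zero_smul, add_zero, add_zero, mul_add, mul_add, tr_add, tr_add, hx.2.1,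
      hx.2.2, hy.2.1, hy.2.2]
    simp only [add_zero, and_self]
  inv_mem' {x} hx := by
    simp only [Set.mem_ofPred_eq] at hx ⊢
    rw [inv_x6, inv_x5, inv_x1, hx.1, zero_smul, add_zero, mul_neg, mul_neg, tr_neg, tr_neg, hx.2.1, hx.2.2]
    simp

theorem mem_R {φ : K ≃ₐ[F] K} [Cub φ] {x : Sy φ} : x ∈ R φ ↔ x.x6 = 0 ∧ x.x5 = 0 := Iff.rfl
theorem mem_Cs {φ : K ≃ₐ[F] K} [Cub φ] {s : K} {x : Sy φ} :
    x ∈ Cs φ s ↔ x.x6 = 0 ∧ tr φ (s * x.x1) = 0 ∧ tr φ (s * x.x5) = 0 := Iff.rfl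

/-- `E` lies (modulo `Z3`) in `K ⊗ λ` for a line `λ` of `F²` -/
def Line {φ : K ≃ₐ[F] K} [Cub φ] (E : Subgroup (Sy φ)) : Prop :=
  ∃ l m : F, (l ≠ 0 ∨ m ≠ 0) ∧ ∀ x ∈ E, l • x.x1 + m • x.x5 = 0

/-- `C = {x ∈ E | x.x1 = 0}` etc. are written `E ⊓ Q1 φ`; the mixed case: -/
def Mixed {φ : K ≃ₐ[F] K} [Cub φ] (E : Subgroup (Sy φ)) : Prop := ¬ E ≤ Q1 φ ∧ ¬ E ≤ Q2 φ

end Sy

/-! ### Statements on essential subgroups of `Sy φ` -/

section Stmts

/-- (E1) -/
def StE1 : Prop :=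
  ∀ {F K : Type u} [Field F] [Field K] [Finite F] [Finite K] [Algebra F K] {φ : K ≃ₐ[F] K} [Cub φ] {p : ℕ} [CharP K p]
    {E : Subgroup (Sy φ)} {Γ : Subgroup (MulAut E)}, Ess ⊤ E p Γ → E ≤ Q1 φ → E = Q1 φ

/-- (E2), `p` odd -/
def StE2o : Prop :=
  ∀ {F K : Type u} [Field F] [Field K] [Finite F] [Finite K] [Algebra F K] {φ : K ≃ₐ[F] K} [Cub φ] {p : ℕ} [CharP K p]
    {E : Subgroup (Sy φ)} {Γ : Subgroup (MulAut E)}, Ess ⊤ E p Γ → p ≠ 2 → Q1 φ ≤ E → E = Q1 φ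

/-- (E2), `p = 2`, first step: the image of `E` in `K = S/Q1` is a plane `s^⊥`, or of order at most two -/
def StE2a : Prop :=
  ∀ {F K : Type u} [Field F] [Field K] [Finite F] [Finite K] [Algebra F K] {φ : K ≃ₐ[F] K} [Cub φ] [CharP K 2]
    {E : Subgroup (Sy φ)} {Γ : Subgroup (MulAut E)}, Ess ⊤ E 2 Γ → Q1 φ ≤ E → E ≠ Q1 φ →
    (∃ s : K, s ≠ 0 ∧ ∀ x : Sy φ, x ∈ E ↔ tr φ (s * x.x1) = 0) ∨
    (∃ a : K, a ≠ 0 ∧ ∀ x : Sy φ, x ∈ E ↔ x.x1 = 0 ∨ x.x1 = a)

/-- (E2), `p = 2`, plane case -/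
def StE2b : Prop :=
  ∀ {F K : Type u} [Field F] [Field K] [Finite F] [Finite K] [Algebra F K] {φ : K ≃ₐ[F] K} [Cub φ] [CharP K 2]
    {E : Subgroup (Sy φ)} {Γ : Subgroup (MulAut E)}, Ess ⊤ E 2 Γ →
    ∀ s : K, s ≠ 0 → (∀ x : Sy φ, x ∈ E ↔ tr φ (s * x.x1) = 0) → False

/-- (E2), `p = 2`, `|E : Q1| = 2` -/
def StE2c : Prop :=
  ∀ {F K : Type u} [Field F] [Field K] [Finite F] [Finite K] [Algebra F K] {φ : K ≃ₐ[F] K} [Cub φ] [CharP K 2]
    {E : Subgroup (Sy φ)} {Γ : Subgroup (MulAut E)}, Ess ⊤ E 2 Γ →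
    ∀ a : K, a ≠ 0 → (∀ x : Sy φ, x ∈ E ↔ x.x1 = 0 ∨ x.x1 = a) → False

/-- (R0) -/
def StR0 : Prop :=
  ∀ {F K : Type u} [Field F] [Field K] [Finite F] [Finite K] [Algebra F K] {φ : K ≃ₐ[F] K} [Cub φ] {p : ℕ} [CharP K p]
    {E : Subgroup (Sy φ)} {Γ : Subgroup (MulAut E)}, Ess ⊤ E p Γ → E ≤ R φ → E = R φ

/-- (R) `R` is not essential, `p` odd -/
def StRo : Prop :=
  ∀ {F K : Type u} [Field F] [Field K] [Finite F] [Finite K] [Algebra F K] {φ : K ≃ₐ[F] K} [Cub φ] {p : ℕ} [CharP K p]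
    {Γ : Subgroup (MulAut (R φ))}, Ess ⊤ (R φ) p Γ → p ≠ 2 → False

/-- (R) `R` is not essential, `p = 2` -/
def StR2 : Prop :=
  ∀ {F K : Type u} [Field F] [Field K] [Finite F] [Finite K] [Algebra F K] {φ : K ≃ₐ[F] K} [Cub φ] [CharP K 2]
    {Γ : Subgroup (MulAut (R φ))}, Ess ⊤ (R φ) 2 Γ → False

/-- (C) `Cs s` is not essential, `p = 2` -/
def StC2 : Prop :=
  ∀ {F K : Type u} [Field F] [Field K] [Finite F] [Finite K] [Algebra F K] {φ : K ≃ₐ[F] K} [Cub φ] [CharP K 2]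
    {s : K} {Γ : Subgroup (MulAut (Cs φ s))}, s ≠ 0 → Ess ⊤ (Cs φ s) 2 Γ → False

/-- (LINE) -/
def StLine : Prop :=
  ∀ {F K : Type u} [Field F] [Field K] [Finite F] [Finite K] [Algebra F K] {φ : K ≃ₐ[F] K} [Cub φ] {p : ℕ} [CharP K p]
    {E : Subgroup (Sy φ)} {Γ : Subgroup (MulAut E)}, Ess ⊤ E p Γ → E ≤ Q2 φ → ¬ Line E

/-- (A) `Z3 ≤ E < Q2`, `p` odd -/
def StAo : Prop :=
  ∀ {F K : Type u} [Field F] [Field K] [Finite F] [Finite K] [Algebra F K] {φ : K ≃ₐ[F] K} [Cub φ] {p : ℕ} [CharP K p]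
    {E : Subgroup (Sy φ)} {Γ : Subgroup (MulAut E)}, Ess ⊤ E p Γ → p ≠ 2 → Z3 φ ≤ E → E ≤ Q2 φ → E ≠ Q2 φ → Line E

/-- (A) `Z3 ≤ E < Q2`, `p = 2` -/
def StA2 : Prop :=
  ∀ {F K : Type u} [Field F] [Field K] [Finite F] [Finite K] [Algebra F K] {φ : K ≃ₐ[F] K} [Cub φ] [CharP K 2]
    {E : Subgroup (Sy φ)} {Γ : Subgroup (MulAut E)}, Ess ⊤ E 2 Γ → Z3 φ ≤ E → E ≤ Q2 φ → E ≠ Q2 φ →
    Line E ∨ ∃ s : K, s ≠ 0 ∧ E = Cs φ s

/-- (B) `E ≤ Q2`, `p` odd -/
def StBo : Prop :=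
  ∀ {F K : Type u} [Field F] [Field K] [Finite F] [Finite K] [Algebra F K] {φ : K ≃ₐ[F] K} [Cub φ] {p : ℕ} [CharP K p]
    {E : Subgroup (Sy φ)} {Γ : Subgroup (MulAut E)}, Ess ⊤ E p Γ → p ≠ 2 → E ≤ Q2 φ → ¬ Line E → Z3 φ ≤ E

/-- (B) `E ≤ Q2`, `p = 2` -/
def StB2 : Prop :=
  ∀ {F K : Type u} [Field F] [Field K] [Finite F] [Finite K] [Algebra F K] {φ : K ≃ₐ[F] K} [Cub φ] [CharP K 2]
    {E : Subgroup (Sy φ)} {Γ : Subgroup (MulAut E)}, Ess ⊤ E 2 Γ → E ≤ Q2 φ → ¬ Line E → Z3 φ ≤ E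

/-- (REG) `p` odd: a regular element is conjugate to `u1 a * u6 u` -/
def StReg : Prop :=
  ∀ {F K : Type u} [Field F] [Field K] [Finite F] [Finite K] [Algebra F K] {φ : K ≃ₐ[F] K} [Cub φ] {p : ℕ} [CharP K p]
    (y : Sy φ), p ≠ 2 → y.x1 ≠ 0 → y.x6 ≠ 0 → ∃ g : Sy φ, g * y * g⁻¹ = u1 φ y.x1 * u6 φ y.x6

/-- (M0) mixed: `Z2 ≤ E` -/
def StM0o : Prop :=
  ∀ {F K : Type u} [Field F] [Field K] [Finite F] [Finite K] [Algebra F K] {φ : K ≃ₐ[F] K} [Cub φ] {p : ℕ} [CharP K p]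
    {E : Subgroup (Sy φ)} {Γ : Subgroup (MulAut E)}, Ess ⊤ E p Γ → p ≠ 2 → Mixed E → Z2 φ ≤ E

def StM02 : Prop :=
  ∀ {F K : Type u} [Field F] [Field K] [Finite F] [Finite K] [Algebra F K] {φ : K ≃ₐ[F] K} [Cub φ] [CharP K 2]
    {E : Subgroup (Sy φ)} {Γ : Subgroup (MulAut E)}, Ess ⊤ E 2 Γ → Mixed E → Z2 φ ≤ E

/-- (ZC) mixed, `Z2 ≤ E`: elements of order `p` of `Z(E)` lie in `Z3`, and `Z1 ≤ Φ(E)` -/
def StZC : Prop :=
  ∀ {F K : Type u} [Field F] [Field K] [Finite F] [Finite K] [Algebra F K] {φ : K ≃ₐ[F] K} [Cub φ] {p : ℕ} [CharP K p]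
    {E : Subgroup (Sy φ)} {Γ : Subgroup (MulAut E)}, Ess ⊤ E p Γ → Mixed E → Z2 φ ≤ E →
    Z1 φ ≤ Phi E ∧ ∀ z ∈ E, (∀ e ∈ E, z * e = e * z) → z ^ p = 1 → z ∈ Z3 φ

/-- (M1) mixed, `Z2 ≤ E`: `Z3 ≤ E` -/
def StM1o : Prop :=
  ∀ {F K : Type u} [Field F] [Field K] [Finite F] [Finite K] [Algebra F K] {φ : K ≃ₐ[F] K} [Cub φ] {p : ℕ} [CharP K p]
    {E : Subgroup (Sy φ)} {Γ : Subgroup (MulAut E)}, Ess ⊤ E p Γ → p ≠ 2 → Mixed E → Z2 φ ≤ E → Z3 φ ≤ E

def StM12 : Prop :=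
  ∀ {F K : Type u} [Field F] [Field K] [Finite F] [Finite K] [Algebra F K] {φ : K ≃ₐ[F] K} [Cub φ] [CharP K 2]
    {E : Subgroup (Sy φ)} {Γ : Subgroup (MulAut E)}, Ess ⊤ E 2 Γ → Mixed E → Z2 φ ≤ E → Z3 φ ≤ E

/-- (M3) mixed, `Z3 ≤ E`: `Z4 ≤ E`, `p` odd -/
def StM3o : Prop :=
  ∀ {F K : Type u} [Field F] [Field K] [Finite F] [Finite K] [Algebra F K] {φ : K ≃ₐ[F] K} [Cub φ] {p : ℕ} [CharP K p]
    {E : Subgroup (Sy φ)} {Γ : Subgroup (MulAut E)}, Ess ⊤ E p Γ → p ≠ 2 → Mixed E → Z3 φ ≤ E → Z4 φ ≤ E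

/-- (M3a), `p = 2`: if `γ ∈ Γ` and `g ∈ Z3` with `[Z4, γ g] ≰ Φ(E)`, then `y = γ g` has `y.x6 = 0`, `y.x1 ≠ 0`, all
`x.x1` (`x ∈ E`) are multiples of `y.x1`, and `γ` leaves `Z1` invariant. -/
def StM3a : Prop :=
  ∀ {F K : Type u} [Field F] [Field K] [Finite F] [Finite K] [Algebra F K] {φ : K ≃ₐ[F] K} [Cub φ] [CharP K 2]
    {E : Subgroup (Sy φ)} {Γ : Subgroup (MulAut E)}, Ess ⊤ E 2 Γ → Mixed E → Z3 φ ≤ E →
    ∀ γ ∈ Γ, ∀ g : E, (g : Sy φ) ∈ Z3 φ → ∀ z ∈ Z4 φ, z * (γ g : E) * z⁻¹ * ((γ g : E) : Sy φ)⁻¹ ∉ Phi E →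
      ((γ g : E) : Sy φ).x6 = 0 ∧ ((γ g : E) : Sy φ).x1 ≠ 0 ∧
      (∀ x ∈ E, ∃ s : F, x.x1 = s • ((γ g : E) : Sy φ).x1) ∧
      (∀ e : E, (e : Sy φ) ∈ Z1 φ → ((γ e : E) : Sy φ) ∈ Z1 φ)

/-- (M3b), `p = 2`: `Z4 ≰ E` implies that `Z1` is `Γ`-invariant -/
def StM3b : Prop :=
  ∀ {F K : Type u} [Field F] [Field K] [Finite F] [Finite K] [Algebra F K] {φ : K ≃ₐ[F] K} [Cub φ] [CharP K 2]
    {E : Subgroup (Sy φ)} {Γ : Subgroup (MulAut E)}, Ess ⊤ E 2 Γ → Mixed E → Z3 φ ≤ E → ¬ Z4 φ ≤ E → Inv Γ (Z1 φ)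

/-- (M3c), `p = 2`: `Z4 ≰ E`: there is `a ≠ 0` with `x.x1 ∈ {0, a}` for all `x ∈ E`, and `y ∈ E` with `y.x1 = a`,
`y.x6 = 0`. -/
def StM3c : Prop :=
  ∀ {F K : Type u} [Field F] [Field K] [Finite F] [Finite K] [Algebra F K] {φ : K ≃ₐ[F] K} [Cub φ] [CharP K 2]
    {E : Subgroup (Sy φ)} {Γ : Subgroup (MulAut E)}, Ess ⊤ E 2 Γ → Mixed E → Z3 φ ≤ E → ¬ Z4 φ ≤ E →
    ∃ a : K, a ≠ 0 ∧ (∀ x ∈ E, x.x1 = 0 ∨ x.x1 = a) ∧ ∃ y ∈ E, y.x1 = a ∧ y.x6 = 0

/-- (M3d), `p = 2`: the rest of `Z4 ≤ E` -/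
def StM3d : Prop :=
  ∀ {F K : Type u} [Field F] [Field K] [Finite F] [Finite K] [Algebra F K] {φ : K ≃ₐ[F] K} [Cub φ] [CharP K 2]
    {E : Subgroup (Sy φ)} {Γ : Subgroup (MulAut E)}, Ess ⊤ E 2 Γ → Mixed E → Z3 φ ≤ E →
    ∀ a : K, a ≠ 0 → (∀ x ∈ E, x.x1 = 0 ∨ x.x1 = a) → (∃ y ∈ E, y.x1 = a ∧ y.x6 = 0) → Z4 φ ≤ E

/-- (M4a) mixed, `Z4 ≤ E`, the `x1`-coordinates span `K` over `F` -/
def StM4a : Prop :=
  ∀ {F K : Type u} [Field F] [Field K] [Finite F] [Finite K] [Algebra F K] {φ : K ≃ₐ[F] K} [Cub φ] {p : ℕ} [CharP K p]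
    {E : Subgroup (Sy φ)} {Γ : Subgroup (MulAut E)}, Ess ⊤ E p Γ → Mixed E → Z4 φ ≤ E →
    (∀ s : K, (∀ x ∈ E, tr φ (s * x.x1) = 0) → s = 0) → False

/-- (M4b) mixed, `Z4 ≤ E`, the `x1`-coordinates lie in a plane but not in a line -/
def StM4b : Prop :=
  ∀ {F K : Type u} [Field F] [Field K] [Finite F] [Finite K] [Algebra F K] {φ : K ≃ₐ[F] K} [Cub φ] {p : ℕ} [CharP K p]
    {E : Subgroup (Sy φ)} {Γ : Subgroup (MulAut E)}, Ess ⊤ E p Γ → Mixed E → Z4 φ ≤ E →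
    (∃ s : K, s ≠ 0 ∧ ∀ x ∈ E, tr φ (s * x.x1) = 0) → (¬ ∃ a : K, ∀ x ∈ E, ∃ t : F, x.x1 = t • a) → Q1 φ ≤ E

/-- (M4c) mixed, `Z4 ≤ E`, the `x1`-coordinates lie in a line -/
def StM4c : Prop :=
  ∀ {F K : Type u} [Field F] [Field K] [Finite F] [Finite K] [Algebra F K] {φ : K ≃ₐ[F] K} [Cub φ] {p : ℕ} [CharP K p]
    {E : Subgroup (Sy φ)} {Γ : Subgroup (MulAut E)}, Ess ⊤ E p Γ → Mixed E → Z4 φ ≤ E →
    (∃ a : K, ∀ x ∈ E, ∃ t : F, x.x1 = t • a) → Q1 φ ≤ E

/-- part E -/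
def StE : Prop :=
  ∀ {F K : Type u} [Field F] [Field K] [Finite F] [Finite K] [Algebra F K] {φ : K ≃ₐ[F] K} [Cub φ] {p : ℕ} [CharP K p]
    {E : Subgroup (Sy φ)} {Γ : Subgroup (MulAut E)}, Ess ⊤ E p Γ → E = Q1 φ ∨ E = Q2 φ

end Stmts

end Cfsg.Agent.H802.TE
end

-- part: H218/TE/Basic
section
prune_inst 0x111001400500000000000500300020043400009000000001d90000400004020100000840006000001020020000098048114c0040001000000000820040040000042a20c28008100021000040f883180c00000000000000000000000000000000000000000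
set_option linter.all false
open scoped Cfsg.Agent.FastGrp

-- part: H218/Fus/PF
section
/-!
# (PF): `|A : A ∩ E| ≤ |W : C_W(A mod W0)|` and `≤ |[W, A] W0 : W0|` for essential `E`

Main theorems `pf`, `pf_frattini`.
-/

set_option autoImplicit false
set_option linter.unusedVariables false

namespace Cfsg.Agent.H218.Fus

open Cfsg Cfsg.FusionSystem Cfsg.Agent.H756.PU Cfsg.Agent.H802
open Cfsg.Agent.H218.Count Cfsg.Agent.H218.CountQ Cfsg.Agent.H218.Glob

variable {Ω : Type*} [Group Ω] {S E : Subgroup Ω} {p : ℕ} {Γ : Subgroup (MulAut E)}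

section Sec

variable {W0 W : Subgroup Ω}

/-- the restriction of `γ` to the invariant subgroup `W` -/
def res (hW : Inv Γ W) (γ : Γ) : W →* W where
  toFun w := ⟨((γ : MulAut E) ⟨w, hW.1 w.2⟩ : E), hW.2 γ γ.2 ⟨w, hW.1 w.2⟩ w.2⟩
  map_one' := by
    apply Subtype.ext
    have h := congrArg (fun z : E => (z : Ω)) (map_one (γ : MulAut E))
    exact h
  map_mul' x y := by
    apply Subtype.ext
    have h := congrArg (fun z : E => (z : Ω)) (map_mul (γ : MulAut E) ⟨x, hW.1 x.2⟩ ⟨y, hW.1 y.2⟩)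
    exact h

theorem res_coe (hW : Inv Γ W) (γ : Γ) (w : W) : ((res hW γ w : W) : Ω) = ((γ : MulAut E) ⟨w, hW.1 w.2⟩ : E) := rfl

/-- the commutative structure of the section -/
@[reducible] def cgS (hN : (W0.subgroupOf W).Normal) (hc : Com W W W0) : CommGroup (W ⧸ W0.subgroupOf W) :=
  { QuotientGroup.Quotient.group (W0.subgroupOf W) with
    mul_comm := by
      intro a b
      obtain ⟨x, rfl⟩ := QuotientGroup.mk_surjective a
      obtain ⟨y, rfl⟩ := QuotientGroup.mk_surjective b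
      refine QuotientGroup.eq.2 ?_
      rw [Subgroup.mem_subgroupOf]
      have h1 := hc _ (inv_mem y.2) _ (inv_mem x.2)
      have e : (((x * y)⁻¹ * (y * x) : W) : Ω) = (y : Ω)⁻¹ * (x : Ω)⁻¹ * ((y : Ω)⁻¹)⁻¹ * ((x : Ω)⁻¹)⁻¹ := by
        push_cast; group
      rw [e]; exact h1 }

/-- the action on the section -/
@[reducible] def actS (hN : (W0.subgroupOf W).Normal) (hc : Com W W W0) (hW0 : Inv Γ W0) (hW : Inv Γ W) :
    letI := cgS hN hc
    DistribMulAction Γ (Additive (W ⧸ W0.subgroupOf W)) :=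
  letI := cgS hN hc
  { smul := fun γ m => Additive.ofMul (QuotientGroup.map (W0.subgroupOf W) (W0.subgroupOf W) (res hW γ) (by
      intro w hw
      rw [Subgroup.mem_comap, Subgroup.mem_subgroupOf, res_coe]
      rw [Subgroup.mem_subgroupOf] at hw
      exact hW0.2 γ γ.2 _ hw) m.toMul)
    one_smul := by
      intro m
      obtain ⟨w, hw⟩ := QuotientGroup.mk_surjective m.toMul
      obtain rfl : Additive.ofMul (QuotientGroup.mk w) = m := congrArg Additive.ofMul hw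
      rfl
    mul_smul := by
      intro x y m
      obtain ⟨w, hw⟩ := QuotientGroup.mk_surjective m.toMul
      obtain rfl : Additive.ofMul (QuotientGroup.mk w) = m := congrArg Additive.ofMul hw
      rfl
    smul_zero := by
      intro γ
      exact congrArg Additive.ofMul (map_one _)
    smul_add := by
      intro γ x y
      exact congrArg Additive.ofMul (map_mul _ _ _) }

end Sec

theorem normal_sub (h : Ess S E p Γ) {W0 W : Subgroup Ω} (hW0 : Inv Γ W0) (hW : W ≤ E) : (W0.subgroupOf W).Normal := by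
  constructor
  intro x hx g
  rw [Subgroup.mem_subgroupOf] at hx ⊢
  exact hW0.2 (MulAut.conj ⟨g, hW g.2⟩) (inn_le_Γ h ⟨_, rfl⟩) ⟨x, hW x.2⟩ hx

/-- conjugation as a homomorphism from `A ≤ N_S(E)` to `Γ` -/
def cjA (h : Ess S E p Γ) {A : Subgroup Ω} (hA : A ≤ normalizerIn S E) : A →* Γ :=
  ((Subgroup.normalizerMonoidHom E).comp (Subgroup.inclusion (hA.trans inf_le_right))).codRestrict Γ
    (fun a => h.indu ((mem_autInducedBy_iff S E _).2 ⟨a, (hA a.2).1, fun x => rfl⟩))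

theorem cjA_apply (h : Ess S E p Γ) {A : Subgroup Ω} (hA : A ≤ normalizerIn S E) (a : A) (e : E) :
    (((cjA h hA a : Γ) : MulAut E) e : Ω) = a * e * (a : Ω)⁻¹ := rfl

theorem cjA_mem_T (h : Ess S E p Γ) {A : Subgroup Ω} (hA : A ≤ normalizerIn S E) (a : A) :
    ((cjA h hA a : Γ) : MulAut E) ∈ autInducedBy S E :=
  (mem_autInducedBy_iff S E _).2 ⟨a, (hA a.2).1, fun x => rfl⟩

theorem cjA_inn (h : Ess S E p Γ) {A : Subgroup Ω} (hA : A ≤ normalizerIn S E) (a : A) :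
    ((cjA h hA a : Γ) : MulAut E) ∈ Inn E ↔ (a : Ω) ∈ E := by
  constructor
  · intro h1
    exact mem_of_inn h (hA a.2).1 (fun e => cjA_apply h hA a e) h1
  · intro h1
    refine ⟨⟨a, h1⟩, ?_⟩
    ext e
    rfl

theorem isPGroup_zpowers {G : Type*} [Group G] {p : ℕ} {q : G} (hq : ∃ k, q ^ p ^ k = 1) :
    IsPGroup p (Subgroup.zpowers q) := by
  obtain ⟨k, hk⟩ := hq
  rintro ⟨z, n, rfl⟩
  refine ⟨k, Subtype.ext ?_⟩
  show (q ^ n) ^ p ^ k = 1
  rw [← zpow_natCast, ← zpow_mul, mul_comm, zpow_mul, zpow_natCast, hk, one_zpow]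

/-- the index of the fixed points in the section is at most `|W : C_W(A mod W0)|` -/
theorem idx_le {Ω : Type*} [Group Ω] {W0 W K : Subgroup Ω} [Finite W] (hN : (W0.subgroupOf W).Normal)
    (F : Subgroup (W ⧸ W0.subgroupOf W)) (hF : ∀ w : W, (w : Ω) ∈ K → (QuotientGroup.mk w : W ⧸ W0.subgroupOf W) ∈ F) :
    F.index ≤ K.relIndex W := by
  have h1 : (F.comap (QuotientGroup.mk' (W0.subgroupOf W))).index = F.index :=
    Subgroup.index_comap_of_surjective F (QuotientGroup.mk'_surjective _)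
  rw [← h1]
  apply Subgroup.index_antitone
  intro w hw
  rw [Subgroup.mem_comap]
  exact hF w (Subgroup.mem_subgroupOf.1 hw)

theorem card_le {Ω : Type*} [Group Ω] {W0 W K : Subgroup Ω} [Finite W] (hN : (W0.subgroupOf W).Normal)
    (hKW : K ≤ W) (F : Subgroup (W ⧸ W0.subgroupOf W))
    (hF : F ≤ (K.subgroupOf W).map (QuotientGroup.mk' (W0.subgroupOf W))) : Nat.card F ≤ W0.relIndex K := by
  have h1 := Subgroup.relIndex_ker (K := K.subgroupOf W) (QuotientGroup.mk' (W0.subgroupOf W))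
  rw [QuotientGroup.ker_mk', Subgroup.relIndex_subgroupOf hKW] at h1
  rw [h1]
  exact Subgroup.card_le_of_le hF

end Cfsg.Agent.H218.Fus
end

-- part: H218/Fus/PFf
section
/-!
# (PF) for the Frattini quotient, the chain lemma (CH), the section lemma (TR)

Main theorems `pf_frattini`, `ch`, `tr`.
-/

set_option autoImplicit false
set_option linter.unusedVariables false

namespace Cfsg.Agent.H218.Fus

open Cfsg Cfsg.FusionSystem Cfsg.Agent.H756.PU Cfsg.Agent.H802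

variable {Ω : Type*} [Group Ω] {S E : Subgroup Ω} {p : ℕ} {Γ : Subgroup (MulAut E)}

theorem isPGroup_E (h : Ess S E p Γ) : IsPGroup p E := h.pgr.to_le h.E_le

/-- `Φ(E)` in the ambient group -/
abbrev phi (E : Subgroup Ω) : Subgroup Ω := (frattini E).map E.subtype

theorem mem_phi {E : Subgroup Ω} {e : E} : (e : Ω) ∈ phi E ↔ e ∈ frattini E := by
  constructor
  · rintro ⟨e', he', h⟩
    obtain rfl : e' = e := Subtype.ext h
    exact he'
  · intro h
    exact ⟨e, h, rfl⟩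

theorem phi_le (E : Subgroup Ω) : phi E ≤ E := Subgroup.map_subtype_le _

theorem inv_phi (Γ : Subgroup (MulAut E)) : Inv Γ (phi E) := by
  refine ⟨phi_le E, fun γ _ e he => ?_⟩
  rw [mem_phi] at he ⊢
  have h1 : (frattini E).map γ.toMonoidHom = frattini E :=
    Subgroup.characteristic_iff_map_eq.1 inferInstance γ
  rw [← h1]
  exact ⟨e, he, rfl⟩

theorem inv_E (Γ : Subgroup (MulAut E)) : Inv Γ E := ⟨le_rfl, fun γ _ e _ => (γ e).2⟩

theorem com_E (h : Ess S E p Γ) : Com E E (phi E) := by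
  have := finE h
  have hp : Fact p.Prime := ⟨h.pp⟩
  intro a ha b hb
  have h1 := (Cfsg.Agent.S0012.result (G := E) p (isPGroup_E h)).1
    (Subgroup.commutator_mem_commutator (Subgroup.mem_top ⟨a, ha⟩) (Subgroup.mem_top ⟨b, hb⟩))
  exact ⟨_, h1, rfl⟩

theorem pow_E (h : Ess S E p Γ) : ∀ w ∈ E, w ^ p ∈ phi E := by
  have := finE h
  have hp : Fact p.Prime := ⟨h.pp⟩
  intro a ha
  exact ⟨_, (Cfsg.Agent.S0012.result (G := E) p (isPGroup_E h)).2 ⟨a, ha⟩, rfl⟩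

/-- the elements of `N` acting trivially on the section `W/W0` -/
def trv (N : Subgroup (MulAut E)) {W W0 : Subgroup Ω} (hW : Inv N W) (hW0 : Inv N W0) : Subgroup (MulAut E) where
  carrier := {γ | γ ∈ N ∧ ∀ e : E, (e : Ω) ∈ W → ((γ e : E) : Ω) * (e : Ω)⁻¹ ∈ W0}
  one_mem' := ⟨one_mem _, fun e _ => by
    rw [MulAut.one_apply, mul_inv_cancel]; exact one_mem _⟩
  mul_mem' := by
    rintro a b ⟨ha, ha'⟩ ⟨hb, hb'⟩
    refine ⟨mul_mem ha hb, fun e he => ?_⟩
    have h1 := mul_mem (ha' (b e) (hW.2 b hb e he)) (hb' e he)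
    rw [MulAut.mul_apply]
    have e1 : ((a (b e) : E) : Ω) * ((b e : E) : Ω)⁻¹ * (((b e : E) : Ω) * (e : Ω)⁻¹) =
      ((a (b e) : E) : Ω) * (e : Ω)⁻¹ := by group
    rwa [e1] at h1
  inv_mem' := by
    rintro a ⟨ha, ha'⟩
    refine ⟨inv_mem ha, fun e he => ?_⟩
    have h1 := inv_mem (ha' (a⁻¹ e) (hW.2 _ (inv_mem ha) e he))
    have e1 : a (a⁻¹ e) = e := a.apply_symm_apply e
    rw [e1, mul_inv_rev, inv_inv] at h1
    exact h1

theorem trv_conj {N : Subgroup (MulAut E)} {W W0 : Subgroup Ω} (hW : Inv N W) (hW0 : Inv N W0) {g γ : MulAut E}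
    (hg : g ∈ N) (hγ : γ ∈ trv N hW hW0) : g * γ * g⁻¹ ∈ trv N hW hW0 := by
  refine ⟨mul_mem (mul_mem hg hγ.1) (inv_mem hg), fun e he => ?_⟩
  have h1 := hγ.2 (g⁻¹ e) (hW.2 _ (inv_mem hg) e he)
  have h2 := hW0.2 g hg (γ (g⁻¹ e) * (g⁻¹ e)⁻¹) h1
  rw [map_mul, map_inv] at h2
  have e1 : g (g⁻¹ e) = e := g.apply_symm_apply e
  rw [e1] at h2
  exact h2

/-- the automorphisms trivial on the Frattini quotient form a `p`-group -/
theorem isPGroup_trv_phi (h : Ess S E p Γ) (N : Subgroup (MulAut E)) : IsPGroup p (trv N (inv_E N) (inv_phi N)) := by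
  have := finE h
  have hp : Fact p.Prime := ⟨h.pp⟩
  refine Cfsg.Agent.Schreier.Tools2.isPGroup_of_trivial_mod_frattini (isPGroup_E h) _ fun φ hφ t => ?_
  have h1 := hφ.2 t t.2
  have h2 : ((φ t * t⁻¹ : E) : Ω) ∈ phi E := h1
  exact mem_phi.1 h2

theorem phi_faithful (h : Ess S E p Γ) : ∀ x ∈ normalizerIn S E, (∀ w ∈ E, x * w * x⁻¹ * w⁻¹ ∈ phi E) → x ∈ E := by
  intro x hx hw
  obtain ⟨α, hα, hαx⟩ := exists_isC h hx
  refine mem_of_inn h hx.1 hαx ?_
  refine le_inn_Γ h (K := trv Γ (inv_E Γ) (inv_phi Γ)) (fun γ hγ => hγ.1)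
    (fun g hg γ hγ => trv_conj _ _ hg hγ) (isPGroup_trv_phi h Γ) ?_
  refine ⟨h.indu hα, fun e he => ?_⟩
  rw [hαx e]
  exact hw e e.2

/-! ### O^{p'}(Γ) -/

theorem pec_le (p : ℕ) (Γ : Subgroup (MulAut E)) : pElementClosure p Γ ≤ Γ :=
  (Subgroup.closure_le _).2 fun _ hx => hx.1

theorem mem_pec {p : ℕ} (hp : p.Prime) {Γ : Subgroup (MulAut E)} {γ : MulAut E} (hγ : γ ∈ Γ)
    (hk : ∃ k, γ ^ p ^ k = 1) : γ ∈ pElementClosure p Γ := by
  obtain ⟨k, hk⟩ := hk
  obtain ⟨i, -, hi⟩ := (Nat.dvd_prime_pow hp).1 (orderOf_dvd_of_pow_eq_one hk)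
  exact Subgroup.subset_closure ⟨hγ, i, hi⟩

theorem T_le_pec (h : Ess S E p Γ) : autInducedBy S E ≤ pElementClosure p Γ := by
  intro γ hγ
  obtain ⟨k, hk⟩ := isPGroup_T h ⟨γ, hγ⟩
  exact mem_pec h.pp (h.indu hγ) ⟨k, congrArg Subtype.val hk⟩

theorem pec_conj (p : ℕ) (Γ : Subgroup (MulAut E)) {g x : MulAut E} (hg : g ∈ Γ) (hx : x ∈ pElementClosure p Γ) :
    g * x * g⁻¹ ∈ pElementClosure p Γ := by
  have h1 : pElementClosure p Γ ≤ (pElementClosure p Γ).comap (MulAut.conj g).toMonoidHom := by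
    unfold pElementClosure
    rw [Subgroup.closure_le]
    rintro y ⟨hy, k, hk⟩
    refine Subgroup.subset_closure ⟨mul_mem (mul_mem hg hy) (inv_mem hg), k, ?_⟩
    rw [← hk]
    exact orderOf_injective (MulAut.conj g).toMonoidHom (MulAut.conj g).injective y
  exact h1 hx

/-- a normal subgroup of `Γ` containing `Aut_S(E)` contains `O^{p'}(Γ)` -/
theorem pec_le_of (h : Ess S E p Γ) {K : Subgroup (MulAut E)} (hT : autInducedBy S E ≤ K)
    (hK : ∀ g ∈ Γ, ∀ x ∈ K, g * x * g⁻¹ ∈ K) : pElementClosure p Γ ≤ K := by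
  unfold pElementClosure
  rw [Subgroup.closure_le]
  rintro γ ⟨hγ, k, hk⟩
  have hzp : IsPGroup p (Subgroup.zpowers γ) := by
    apply isPGroup_zpowers
    exact ⟨k, by rw [← hk, pow_orderOf_eq_one]⟩
  obtain ⟨g, hg, hgx⟩ := h.syl _ ((Subgroup.zpowers_le).2 hγ) hzp
  have h1 := hK g⁻¹ (inv_mem hg) _ (hT (hgx _ (Subgroup.mem_zpowers _)))
  have e : g⁻¹ * (g * γ * g⁻¹) * g⁻¹⁻¹ = γ := by group
  rwa [e] at h1

/-- **(TR)** if `N_S(E)` acts trivially on an invariant section, then so does `O^{p'}(Γ)` -/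
theorem tr (h : Ess S E p Γ) {W0 W : Subgroup Ω} (hW0 : Inv Γ W0) (hW : Inv Γ W)
    (hT : Com (normalizerIn S E) W W0) : ∀ γ ∈ pElementClosure p Γ, ∀ e : E, (e : Ω) ∈ W →
      ((γ e : E) : Ω) * (e : Ω)⁻¹ ∈ W0 := by
  have h1 : pElementClosure p Γ ≤ trv Γ hW hW0 := by
    refine pec_le_of h ?_ fun g hg x hx => trv_conj _ _ hg hx
    intro γ hγ
    obtain ⟨x, hx, hxc⟩ := (mem_autInducedBy_iff S E _).1 hγ
    refine ⟨h.indu hγ, fun e he => ?_⟩
    rw [hxc e]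
    exact hT x ⟨hx, mem_normalizer_of_aut hxc⟩ e he
  exact fun γ hγ => (h1 hγ).2

/-! ### The chain lemma -/

/-- the stabilizer of a chain -/
def stab (N : Subgroup (MulAut E)) (m : ℕ) (W : ℕ → Subgroup Ω) (hW : ∀ i ≤ m, Inv N (W i)) :
    Subgroup (MulAut E) where
  carrier := {γ | γ ∈ N ∧ ∀ i < m, ∀ e : E, (e : Ω) ∈ W i → ((γ e : E) : Ω) * (e : Ω)⁻¹ ∈ W (i + 1)}
  one_mem' := ⟨one_mem _, fun i hi => (one_mem (trv N (hW i hi.le) (hW (i + 1) hi))).2⟩
  mul_mem' := by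
    rintro a b ⟨ha, ha'⟩ ⟨hb, hb'⟩
    refine ⟨mul_mem ha hb, fun i hi => ?_⟩
    have h1 : a ∈ trv N (hW i hi.le) (hW (i + 1) hi) := ⟨ha, ha' i hi⟩
    have h2 : b ∈ trv N (hW i hi.le) (hW (i + 1) hi) := ⟨hb, hb' i hi⟩
    exact (mul_mem h1 h2).2
  inv_mem' := by
    rintro a ⟨ha, ha'⟩
    refine ⟨inv_mem ha, fun i hi => ?_⟩
    have h1 : a ∈ trv N (hW i hi.le) (hW (i + 1) hi) := ⟨ha, ha' i hi⟩
    exact (inv_mem h1).2

theorem stab_conj {N : Subgroup (MulAut E)} {m : ℕ} {W : ℕ → Subgroup Ω} (hW : ∀ i ≤ m, Inv N (W i))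
    {g γ : MulAut E} (hg : g ∈ N) (hγ : γ ∈ stab N m W hW) : g * γ * g⁻¹ ∈ stab N m W hW := by
  refine ⟨mul_mem (mul_mem hg hγ.1) (inv_mem hg), fun i hi => ?_⟩
  have h1 : γ ∈ trv N (hW i hi.le) (hW (i + 1) hi) := ⟨hγ.1, hγ.2 i hi⟩
  exact (trv_conj _ _ hg h1).2

/-- the stabilizer of a chain from `E` to a subgroup of `Φ(E)` is a `p`-group -/
theorem isPGroup_stab (h : Ess S E p Γ) {N : Subgroup (MulAut E)} (hIN : Inn E ≤ N) {m : ℕ} {W : ℕ → Subgroup Ω}
    (hW : ∀ i ≤ m, Inv N (W i)) (h0 : W 0 = E) (hm : W m ≤ phi E) : IsPGroup p (stab N m W hW) := by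
  classical
  have hfE := finE h
  have hp : Fact p.Prime := ⟨h.pp⟩
  obtain ⟨n, hn⟩ := IsPGroup.iff_card.1 (isPGroup_E h)
  have key : ∀ γ ∈ stab N m W hW, ∀ i ≤ m, ∀ e : E, (((γ ^ (p ^ n) ^ i) e : E) : Ω) * (e : Ω)⁻¹ ∈ W i := by
    intro γ hγ i
    induction i with
    | zero =>
      intro _ e
      rw [h0]
      exact mul_mem ((γ ^ (p ^ n) ^ 0) e).2 (inv_mem e.2)
    | succ i ih =>
      intro hi e
      have hi' : i < m := hi
      set δ := γ ^ (p ^ n) ^ i with hδ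
      have hδm : δ ∈ stab N m W hW := pow_mem hγ _
      have hNn : ((W (i + 1)).subgroupOf E).Normal := by
        constructor
        intro x hx g
        rw [Subgroup.mem_subgroupOf] at hx ⊢
        exact (hW (i + 1) hi).2 (MulAut.conj g) (hIN ⟨_, rfl⟩) x hx
      set w : E := δ e * e⁻¹ with hw
      have hwW : (w : Ω) ∈ W i := ih hi'.le e
      have hpow : ∀ k : ℕ, (QuotientGroup.mk ((δ ^ k) e) : E ⧸ (W (i + 1)).subgroupOf E) =
          (QuotientGroup.mk w) ^ k * QuotientGroup.mk e := by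
        intro k
        induction k with
        | zero => simp
        | succ k ihk =>
          have e1 : (δ ^ (k + 1)) e = (δ ^ k) w * (δ ^ k) e := by
            rw [pow_succ, MulAut.mul_apply, ← map_mul, hw, inv_mul_cancel_right]
          have e2 : (QuotientGroup.mk ((δ ^ k) w) : E ⧸ (W (i + 1)).subgroupOf E) = QuotientGroup.mk w := by
            rw [QuotientGroup.eq_iff_div_mem, Subgroup.mem_subgroupOf, div_eq_mul_inv]
            exact (pow_mem hδm k).2 i hi' w hwW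
          rw [e1, QuotientGroup.mk_mul, ihk, e2, pow_succ', mul_assoc]
      have h2 := hpow (p ^ n)
      have h3 : (QuotientGroup.mk w : E ⧸ (W (i + 1)).subgroupOf E) ^ p ^ n = 1 := by
        rw [← QuotientGroup.mk_pow, ← hn, pow_card_eq_one']; rfl
      rw [h3, one_mul, QuotientGroup.eq_iff_div_mem, Subgroup.mem_subgroupOf, div_eq_mul_inv] at h2
      have e3 : δ ^ p ^ n = γ ^ (p ^ n) ^ (i + 1) := by
        rw [hδ, ← pow_mul, ← pow_succ]
      rw [e3] at h2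
      exact h2
  rintro ⟨γ, hγ⟩
  have h1 := key γ hγ m le_rfl
  have h2 : γ ^ (p ^ n) ^ m ∈ trv N (inv_E N) (inv_phi N) := ⟨pow_mem hγ.1 _, fun e _ => hm (h1 e)⟩
  obtain ⟨k, hk⟩ := isPGroup_trv_phi h N ⟨_, h2⟩
  refine ⟨n * m + k, Subtype.ext ?_⟩
  have h3 : (γ ^ (p ^ n) ^ m) ^ p ^ k = 1 := congrArg Subtype.val hk
  show γ ^ p ^ (n * m + k) = 1
  rw [← h3, ← pow_mul, pow_add, pow_mul p n m]

/-- **(CH)**, general: chain of subgroups invariant under a normal subgroup `N ≥ Aut_S(E)` of `Γ` -/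
theorem ch_gen (h : Ess S E p Γ) {N : Subgroup (MulAut E)} (hNΓ : N ≤ Γ) (hTN : autInducedBy S E ≤ N)
    (hN : ∀ g ∈ Γ, ∀ x ∈ N, g * x * g⁻¹ ∈ N) {m : ℕ} {W : ℕ → Subgroup Ω} (h0 : W 0 = E)
    (hW : ∀ i ≤ m, Inv N (W i)) (hm : W m ≤ phi E) {A : Subgroup Ω} (hA : A ≤ normalizerIn S E)
    (hAW : ∀ i < m, Com A (W i) (W (i + 1))) : A ≤ E := by
  intro a ha
  obtain ⟨α, hα, hαa⟩ := exists_isC h (hA ha)
  refine mem_of_inn h (hA ha).1 hαa ?_
  refine le_inn h hNΓ hTN hN (K := stab N m W hW) (fun γ hγ => hγ.1) (fun g hg γ hγ => stab_conj hW hg hγ)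
    (isPGroup_stab h ((inn_le_T h).trans hTN) hW h0 hm) ?_
  refine ⟨hTN hα, fun i hi e he => ?_⟩
  rw [hαa e]
  exact hAW i hi a ha e he

/-- **(CH)** chain lemma: `E = W 0 ≥ W 1 ≥ … ≥ W m ≤ Φ(E)` invariant under `O^{p'}(Γ)`, `[A, W i] ≤ W (i+1)` -/
theorem ch (h : Ess S E p Γ) {m : ℕ} {W : ℕ → Subgroup Ω} (h0 : W 0 = E)
    (hW : ∀ i ≤ m, Inv (pElementClosure p Γ) (W i)) (hm : W m ≤ phi E) {A : Subgroup Ω}
    (hA : A ≤ normalizerIn S E) (hAW : ∀ i < m, Com A (W i) (W (i + 1))) : A ≤ E :=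
  ch_gen h (pec_le p Γ) (T_le_pec h) (fun g hg x hx => pec_conj p Γ hg hx) h0 hW hm hA hAW

end Cfsg.Agent.H218.Fus
end

-- part: H218/TE/Basic
section
/-!
# S5261 engine: StPhi, StCh, StHull
-/

set_option autoImplicit false
set_option linter.unusedVariables false

namespace Cfsg.Agent.H218.TE

open Cfsg Cfsg.FusionSystem Cfsg.Agent.H756.PU Cfsg.Agent.H802 Cfsg.Agent.H802.TE Cfsg.Agent.H218.Fus

universe u

theorem Phi_eq {Ω : Type*} [Group Ω] (E : Subgroup Ω) : Phi E = phi E := rfl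

/-- conjugation by an element of the normalizer preserves `Φ(E)` -/
theorem conj_phi {Ω : Type*} [Group Ω] {E : Subgroup Ω} {x : Ω} (hx : x ∈ Subgroup.normalizer (E : Set Ω)) {y : Ω}
    (hy : y ∈ phi E) : x * y * x⁻¹ ∈ phi E := by
  obtain ⟨α, hα⟩ := exists_conjAut hx
  obtain ⟨e, he, rfl⟩ := hy
  have h1 := (inv_phi (⊤ : Subgroup (MulAut E))).2 α (Subgroup.mem_top _) e (mem_phi.2 he)
  rw [hα] at h1
  exact h1

/-- (F) -/
theorem stPhi : StPhi.{u} := by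
  intro Ω _ E p hp hfin hE
  have : Fact p.Prime := ⟨hp⟩
  obtain ⟨h1, h2⟩ := Cfsg.Agent.S0012.result (G := E) p hE
  refine ⟨phi_le E, ?_, ?_, ?_, fun Γ => inv_phi Γ, fun x hx y hy => conj_phi hx hy⟩
  · intro a ha b hb
    exact ⟨_, h1 (Subgroup.commutator_mem_commutator (Subgroup.mem_top ⟨a, ha⟩) (Subgroup.mem_top ⟨b, hb⟩)), rfl⟩
  · intro a ha
    exact ⟨_, h2 ⟨a, ha⟩, rfl⟩
  · intro N hN hc hpw
    have hNn : (N.subgroupOf E).Normal := by
      constructor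
      intro x hx g
      rw [Subgroup.mem_subgroupOf] at hx ⊢
      have h3 := mul_mem (hc g g.2 x x.2) hx
      rw [inv_mul_cancel_right] at h3
      exact h3
    have h3 := Cfsg.Agent.S0013.result (G := E) p hE (N.subgroupOf E) (by
      rw [commutator_def, Subgroup.commutator_le]
      intro a _ b _
      rw [Subgroup.mem_subgroupOf]
      exact hc a a.2 b b.2) (fun x => Subgroup.mem_subgroupOf.2 (hpw x x.2))
    rintro _ ⟨e, he, rfl⟩
    exact Subgroup.mem_subgroupOf.1 (h3 he)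

/-- elements `A` with `[A, E] ≤ E` normalize `E` -/
theorem le_norm {Ω : Type*} [Group Ω] {S E A : Subgroup Ω} (hfin : Finite E) (hA : A ≤ S)
    (h : ∀ a ∈ A, ∀ e ∈ E, a * e * a⁻¹ * e⁻¹ ∈ E) : A ≤ normalizerIn S E := by
  intro a ha
  refine ⟨hA ha, ?_⟩
  show a ∈ Subgroup.normalizer (E : Set Ω)
  rw [Subgroup.mem_normalizer_iff]
  intro x
  constructor
  · intro hx
    have h1 := mul_mem (h a ha x hx) hx
    rwa [inv_mul_cancel_right] at h1
  · intro hx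
    have h1 := mul_mem (h a⁻¹ (inv_mem ha) _ hx) hx
    rw [inv_mul_cancel_right] at h1
    have e1 : a⁻¹ * (a * x * a⁻¹) * a⁻¹⁻¹ = x := by group
    rwa [e1] at h1

/-- (CH) -/
theorem stCh : StCh.{u} := by
  intro Ω _ S E p Γ h n M h0 hn hInv hle A hA hAM
  have hfin := finE h
  have hN : A ≤ normalizerIn S E := by
    refine le_norm hfin hA fun a ha e he => ?_
    rcases Nat.eq_zero_or_pos n with h1 | h1
    · subst h1
      -- then `E = M 0 ≤ Φ(E)`
      exfalso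
      obtain ⟨H, hHΓ, hHne, hTH, hTI, hse⟩ := h.spe
      apply hTI
      have h2 : E ≤ phi E := by rw [← hn]; rw [Phi_eq] at h0; exact hn ▸ h0
      have h3 : frattini E = ⊤ := by
        rw [eq_top_iff]
        intro x _
        exact mem_phi.1 (h2 x.2)
      have hp : Fact p.Prime := ⟨h.pp⟩
      have h4 : IsPGroup p (trv Γ (inv_E Γ) (inv_phi Γ)) := isPGroup_trv_phi h Γ
      have h5 := le_inn_Γ h (K := trv Γ (inv_E Γ) (inv_phi Γ)) (fun γ hγ => hγ.1)
        (fun g hg γ hγ => trv_conj _ _ hg hγ) h4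
      intro t ht
      refine h5 ⟨h.indu ht, fun e he => ?_⟩
      rw [show (((t e : E) : Ω) * (e : Ω)⁻¹) = ((t e * e⁻¹ : E) : Ω) from rfl, mem_phi, h3]
      trivial
    · have h2 := hAM (n - 1) (by omega)
      rw [show n - 1 + 1 = n by omega, hn] at h2
      exact (hInv (n - 1) (by omega)).1 (h2 a ha e he)
  refine ch_gen h le_rfl h.indu (fun g hg x hx => mul_mem (mul_mem hg hx) (inv_mem hg)) (m := n)
    (W := fun i => M (n - i)) (by simpa using hn) (fun i hi => hInv _ (by omega)) (by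
      show M (n - n) ≤ phi E
      rw [Nat.sub_self]; exact h0) hN ?_
  intro i hi
  have h2 := hAM (n - (i + 1)) (by omega)
  rw [show n - (i + 1) + 1 = n - i by omega] at h2
  exact h2

/-- (HULL) -/
theorem stHull : StHull.{u} := by
  intro Ω _ S E p Γ h A Y hA hY hAY hAE
  by_contra hcon
  push Not at hcon
  apply hAE
  have hfin := finE h
  -- the hull
  set U : Subgroup Ω := Subgroup.closure {y : Ω | ∃ γ ∈ Γ, ∃ e : E, (e : Ω) ∈ Y ∧ y = ((γ e : E) : Ω)} with hU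
  have hUE : U ≤ E := by
    rw [hU, Subgroup.closure_le]
    rintro _ ⟨γ, _, e, _, rfl⟩
    exact (γ e).2
  have hUinv : Inv Γ U := by
    refine ⟨hUE, fun γ hγ e he => ?_⟩
    have h1 : U ≤ ((U.subgroupOf E).comap γ.toMonoidHom).map E.subtype := by
      refine (Subgroup.closure_le _).2 ?_
      rintro _ ⟨δ, hδ, f, hf, rfl⟩
      refine ⟨δ f, ?_, rfl⟩
      rw [SetLike.mem_coe, Subgroup.mem_comap, Subgroup.mem_subgroupOf]
      exact Subgroup.subset_closure ⟨γ * δ, mul_mem hγ hδ, f, hf, rfl⟩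
    obtain ⟨e', he', hee⟩ := h1 he
    obtain rfl : e' = e := Subtype.ext hee
    exact he'
  have hYU : ∀ y ∈ Y, y ∈ U := fun y hy =>
    Subgroup.subset_closure ⟨1, one_mem _, ⟨y, hY hy⟩, hy, rfl⟩
  have hinv2 : Inv Γ (U ⊔ phi E) := by
    refine ⟨sup_le hUE (phi_le E), fun γ hγ e he => ?_⟩
    have h1 : U ⊔ phi E ≤ (((U ⊔ phi E).subgroupOf E).comap γ.toMonoidHom).map E.subtype := by
      refine sup_le ?_ ?_
      · intro x hx
        refine ⟨⟨x, hUE hx⟩, ?_, rfl⟩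
        rw [SetLike.mem_coe, Subgroup.mem_comap, Subgroup.mem_subgroupOf]
        exact Subgroup.mem_sup_left (hUinv.2 γ hγ _ hx)
      · intro x hx
        refine ⟨⟨x, phi_le E hx⟩, ?_, rfl⟩
        rw [SetLike.mem_coe, Subgroup.mem_comap, Subgroup.mem_subgroupOf]
        exact Subgroup.mem_sup_right ((inv_phi Γ).2 γ hγ _ hx)
    obtain ⟨e', he', hee⟩ := h1 he
    obtain rfl : e' = e := Subtype.ext hee
    exact he'
  have hN : A ≤ normalizerIn S E := le_norm hfin hA fun a ha e he => hY (hAY a ha e he)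
  -- `[A, U Φ] ≤ Φ`
  have hAU : Com A (U ⊔ phi E) (phi E) := by
    intro a ha
    have hce := com_E h
    -- elements of `E` centralized by `a` modulo `Φ(E)`
    have han := (hN ha).2
    have hcent : ∀ x ∈ E, a * x * a⁻¹ ∈ E := fun x hx => (Subgroup.mem_normalizer_iff.1 han x).1 hx
    have hphn : ∀ x ∈ E, ∀ y ∈ phi E, x * y * x⁻¹ ∈ phi E := fun x hx y hy =>
      conj_phi (Subgroup.le_normalizer hx) hy
    let C : Subgroup Ω := {
      carrier := {x | x ∈ E ∧ a * x * a⁻¹ * x⁻¹ ∈ phi E}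
      one_mem' := ⟨one_mem _, by simp⟩
      mul_mem' := by
        rintro x y ⟨hx, hx'⟩ ⟨hy, hy'⟩
        refine ⟨mul_mem hx hy, ?_⟩
        have h1 := mul_mem hx' (hphn x hx _ hy')
        have e1 : a * x * a⁻¹ * x⁻¹ * (x * (a * y * a⁻¹ * y⁻¹) * x⁻¹) = a * (x * y) * a⁻¹ * (x * y)⁻¹ := by group
        rwa [e1] at h1
      inv_mem' := by
        rintro x ⟨hx, hx'⟩
        refine ⟨inv_mem hx, ?_⟩
        have h1 := hphn x⁻¹ (inv_mem hx) _ (inv_mem hx')
        have e1 : x⁻¹ * (a * x * a⁻¹ * x⁻¹)⁻¹ * x⁻¹⁻¹ = a * x⁻¹ * a⁻¹ * x⁻¹⁻¹ := by group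
        rwa [e1] at h1 }
    have h1 : U ⊔ phi E ≤ C := by
      refine sup_le ?_ ?_
      · rw [hU, Subgroup.closure_le]
        rintro _ ⟨γ, hγ, y, hy, rfl⟩
        exact ⟨(γ y).2, hcon γ hγ y hy a ha⟩
      · intro x hx
        exact ⟨phi_le E hx, mul_mem (conj_phi han hx) (inv_mem hx)⟩
    exact fun m hm => (h1 hm).2
  refine ch_gen h le_rfl h.indu (fun g hg x hx => mul_mem (mul_mem hg hx) (inv_mem hg)) (m := 2)
    (W := fun i => if i = 0 then E else if i = 1 then U ⊔ phi E else phi E) (by simp) ?_ (by simp) hN ?_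
  · intro i _
    by_cases h1 : i = 0
    · simp only [h1, if_true]; exact inv_E Γ
    by_cases h2 : i = 1
    · simp only [h2, one_ne_zero, if_false, if_true]; exact hinv2
    · simp only [h1, h2, if_false]; exact inv_phi Γ
  · intro i hi
    have : i = 0 ∨ i = 1 := by omega
    rcases this with rfl | rfl
    · simp only [if_true, zero_add, one_ne_zero, if_false]
      exact fun a ha e he => Subgroup.mem_sup_left (hYU _ (hAY a ha e he))
    · simp only [one_ne_zero, if_false, if_true]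
      exact hAU

end Cfsg.Agent.H218.TE
end
end

-- part: H205/TE/P2
section
prune_inst 0x11000140440000000000000030000004200000000000000018000000000c02000004084100601002003000000005006811000000000000000000080040000000002a004280080000000000001080000000000000000000000000000000000000000000000
set_option linter.all false
open scoped Cfsg.Agent.FastGrp

-- part: H205/TE/Abs
section
/-!
# S5261 (hub helper802), task 5404 = TE-P2 (helper205): the inequality for two `p`-subgroups, abstract form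

`G` is a finite group with a strongly `p`-embedded subgroup `X`, `V` a finite faithful `F_p G`-module, `A`, `B ≤ X` are
`p`-subgroups, `B ≠ 1`.

* `sq_fix` : `|A|² ≤ |V : C_V(A)| |V : C_V(B)|`;
* `sq_com` : `|A|² ≤ |[V,A]| |[V,B]|`.
-/

set_option autoImplicit false
set_option linter.unusedSectionVars false

namespace Cfsg.Agent.H205.TE

open Subgroup Cfsg Cfsg.Agent.H218.Fus Cfsg.Agent.H775.PU

universe u

section SE

variable {G : Type*} [Group G] [Finite G] {p : ℕ} [hp : Fact p.Prime] {X : Subgroup G}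

/-- a `p`-subgroup meeting `X` nontrivially is in `X` -/
theorem le_of_inf (hX : SE p X) {P : Subgroup G} (hP : IsPGroup p P) {q : G} (hqP : q ∈ P) (hqX : q ∈ X) (hq1 : q ≠ 1) :
    P ≤ X := by
  by_contra hcon
  have hnil : Group.IsNilpotent P := hP.isNilpotent
  have hne : X.subgroupOf P ≠ ⊤ := by
    rw [Ne, subgroupOf_eq_top]
    exact hcon
  have h1 := Group.normalizerCondition_of_isNilpotent (X.subgroupOf P) hne.lt_top
  obtain ⟨g, hg, hgX⟩ := SetLike.exists_of_lt h1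
  obtain ⟨k, hk⟩ := hP ⟨q, hqP⟩
  apply hX.se q hqX hq1 ⟨k, congrArg Subtype.val hk⟩ g (fun h => hgX (mem_subgroupOf.2 h))
  have h2 := (mem_normalizer_iff.1 hg ⟨q, hqP⟩).1 (mem_subgroupOf.2 hqX)
  exact mem_subgroupOf.1 h2

/-- there is no nontrivial normal `p`-subgroup -/
theorem normal_eq_bot (hX : SE p X) {q : G} (hqX : q ∈ X) (hq1 : q ≠ 1) (hqp : ∃ k, q ^ p ^ k = 1) {C : Subgroup G}
    (hCn : C.Normal) (hC : IsPGroup p C) : C = ⊥ := by
  have hQ : IsPGroup p (zpowers q) := by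
    rintro ⟨y, hy⟩
    obtain ⟨k, hk⟩ := hqp
    obtain ⟨l, rfl⟩ := mem_zpowers_iff.1 hy
    refine ⟨k, Subtype.ext ?_⟩
    change (q ^ l) ^ p ^ k = 1
    rw [← zpow_natCast, ← zpow_mul, mul_comm, zpow_mul, zpow_natCast, hk, one_zpow]
  have hP : IsPGroup p (zpowers q ⊔ C : Subgroup G) :=
    hQ.to_sup_of_normal_right' hC (by rw [normalizer_eq_top C]; exact le_top)
  have hle : zpowers q ⊔ C ≤ X := le_of_inf hX hP (mem_sup_left (mem_zpowers q)) hqX hq1
  rw [eq_bot_iff]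
  intro c hc
  rw [mem_bot]
  by_contra hc1
  obtain ⟨g, hg⟩ := hX.ne
  obtain ⟨k, hk⟩ := hC ⟨c, hc⟩
  exact hX.se c (hle (mem_sup_right hc)) hc1 ⟨k, congrArg Subtype.val hk⟩ g hg (hle (mem_sup_right (hCn.conj_mem c hc g)))

/-- `IsStronglyPEmbedded` from `SE` -/
theorem strong_of_se (hX : SE p X) {q : G} (hqX : q ∈ X) (hq1 : q ≠ 1) (hqp : ∃ k, q ^ p ^ k = 1) :
    IsStronglyPEmbedded p X := by
  have hQ : IsPGroup p (zpowers q) := by
    rintro ⟨y, hy⟩
    obtain ⟨k, hk⟩ := hqp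
    obtain ⟨l, rfl⟩ := mem_zpowers_iff.1 hy
    refine ⟨k, Subtype.ext ?_⟩
    change (q ^ l) ^ p ^ k = 1
    rw [← zpow_natCast, ← zpow_mul, mul_comm, zpow_mul, zpow_natCast, hk, one_zpow]
  obtain ⟨P, hP⟩ := hQ.exists_le_sylow
  have hPX : (P : Subgroup G) ≤ X := le_of_inf hX P.isPGroup' (hP (mem_zpowers q)) hqX hq1
  refine ⟨?_, ?_, P, ?_⟩
  · obtain ⟨k, hk⟩ := hqp
    obtain ⟨i, -, hi⟩ := (Nat.dvd_prime_pow hp.out).1 (orderOf_dvd_of_pow_eq_one hk)
    have hi0 : i ≠ 0 := by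
      rintro rfl
      rw [pow_zero, orderOf_eq_one_iff] at hi
      exact hq1 hi
    exact (dvd_pow_self p hi0).trans (hi ▸ orderOf_dvd_natCard q)
  · obtain ⟨g, hg⟩ := hX.ne
    rintro rfl
    exact hg (mem_top g)
  · unfold kGeneratedCore
    rw [iSup_le_iff]
    rintro ⟨Q, hQP, hrk⟩ g hg
    have hQ1 : Q ≠ ⊥ := by
      rintro rfl
      apply hrk
      intro A _ _
      have : Nat.card A ≤ Nat.card (⊥ : Subgroup G) := Finite.card_subtype_le _
      simpa using this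
    obtain ⟨x, hxQ, hx1⟩ := (bot_or_exists_ne_one Q).resolve_left hQ1
    by_contra hgX
    obtain ⟨k, hk⟩ := P.isPGroup' ⟨x, hQP hxQ⟩
    exact hX.se x (hPX (hQP hxQ)) hx1 ⟨k, congrArg Subtype.val hk⟩ g hgX
      (hPX (hQP ((mem_normalizer_iff.1 hg x).1 hxQ)))

/-- the group generated by `B` and a conjugate of `A` -/
theorem exists_J (hX : SE p X) {A B : Subgroup G} (hAX : A ≤ X) (hBX : B ≤ X) (hB : IsPGroup p B) (hB1 : B ≠ ⊥) :
    ∃ x : G, ∃ X' : Subgroup (A.map (MulAut.conj x).toMonoidHom ⊔ B : Subgroup G), SE p X' ∧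
      (A.map (MulAut.conj x).toMonoidHom).subgroupOf (A.map (MulAut.conj x).toMonoidHom ⊔ B) ≤ X' := by
  obtain ⟨x, hx⟩ := hX.ne
  refine ⟨x, (X.map (MulAut.conj x).toMonoidHom).subgroupOf _, ?_, ?_⟩
  · have hmem : ∀ g : G, g ∈ X.map (MulAut.conj x).toMonoidHom ↔ x⁻¹ * g * x ∈ X := by
      intro g
      constructor
      · rintro ⟨y, hy, rfl⟩
        have e : x⁻¹ * (MulAut.conj x).toMonoidHom y * x = y := by
          change x⁻¹ * (x * y * x⁻¹) * x = y
          group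
        rwa [e]
      · intro h
        refine ⟨_, h, ?_⟩
        change x * (x⁻¹ * g * x) * x⁻¹ = g
        group
    constructor
    · obtain ⟨b, hb, hb1⟩ := (bot_or_exists_ne_one B).resolve_left hB1
      obtain ⟨k, hk⟩ := hB ⟨b, hb⟩
      refine ⟨⟨b, mem_sup_right hb⟩, fun h => ?_⟩
      rw [mem_subgroupOf, hmem] at h
      refine hX.se b (hBX hb) hb1 ⟨k, congrArg Subtype.val hk⟩ x⁻¹ (fun h' => hx (inv_mem_iff.1 h')) ?_
      rwa [inv_inv]
    · rintro ⟨q, hqJ⟩ hq hq1 ⟨k, hk⟩ ⟨g, hgJ⟩ hg hqg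
      rw [mem_subgroupOf, hmem] at hq hg hqg
      change x⁻¹ * q * x ∈ X at hq
      change x⁻¹ * g * x ∉ X at hg
      change x⁻¹ * (g * q * g⁻¹) * x ∈ X at hqg
      refine hX.se _ hq (fun h => hq1 (Subtype.ext ?_)) ⟨k, ?_⟩ _ hg ?_
      · have e : q = x * (x⁻¹ * q * x) * x⁻¹ := by group
        change q = 1
        rw [e, h, mul_one, mul_inv_cancel]
      · have h1 : q ^ p ^ k = 1 := congrArg Subtype.val hk
        have e : x⁻¹ * q * x = x⁻¹ * q * (x⁻¹)⁻¹ := by rw [inv_inv]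
        rw [e, conj_pow, h1, mul_one, mul_inv_cancel]
      · have e : x⁻¹ * g * x * (x⁻¹ * q * x) * (x⁻¹ * g * x)⁻¹ = x⁻¹ * (g * q * g⁻¹) * x := by group
        rwa [e]
  · intro g hg
    rw [mem_subgroupOf] at hg ⊢
    exact map_mono hAX hg

end SE

section Rep

variable {G V : Type u} [Group G] [Finite G] {p : ℕ} [hp : Fact p.Prime] [AddCommGroup V] [Module (ZMod p) V]
  [Finite V] {X : Subgroup G}

/-- `|A|² ≤ |V|` -/
theorem core_sq (h3083 : B3083.{u}) (hX : SE p X) {A : Subgroup G} (hA : IsPGroup p A) (hAX : A ≤ X)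
    (ρ : Representation (ZMod p) G V) (hρ : Function.Injective ρ) : Nat.card A ^ 2 ≤ Nat.card V := by
  by_cases hA1 : A = ⊥
  · subst hA1
    rw [Subgroup.card_bot, one_pow]
    exact Nat.card_pos
  · obtain ⟨q, hq, hq1⟩ := (bot_or_exists_ne_one A).resolve_left hA1
    obtain ⟨k, hk⟩ := hA ⟨q, hq⟩
    obtain ⟨T, hT⟩ := hA.exists_le_sylow
    have h1 := h3083 p X (strong_of_se hX (hAX hq) hq1 ⟨k, congrArg Subtype.val hk⟩) T V ρ hρ
    refine (Nat.pow_le_pow_left ?_ 2).trans h1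
    exact Nat.card_le_card_of_injective (inclusion hT) (inclusion_injective hT)

/-- the same if the kernel of the representation has exponent `p` -/
theorem core_sq' (h3083 : B3083.{u}) (hX : SE p X) {A : Subgroup G} (hA : IsPGroup p A) (hAX : A ≤ X)
    (ρ : Representation (ZMod p) G V) (hρ : ∀ g, ρ g = 1 → g ^ p = 1) : Nat.card A ^ 2 ≤ Nat.card V := by
  by_cases hA1 : A = ⊥
  · subst hA1
    rw [Subgroup.card_bot, one_pow]
    exact Nat.card_pos
  · obtain ⟨q, hq, hq1⟩ := (bot_or_exists_ne_one A).resolve_left hA1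
    obtain ⟨k, hk⟩ := hA ⟨q, hq⟩
    refine core_sq h3083 hX hA hAX ρ ?_
    rw [← MonoidHom.ker_eq_bot_iff]
    refine normal_eq_bot hX (hAX hq) hq1 ⟨k, congrArg Subtype.val hk⟩ inferInstance ?_
    rintro ⟨g, hg⟩
    exact ⟨1, Subtype.ext (by rw [pow_one]; exact hρ g hg)⟩

/-- `[V, A]` -/
def comS (ρ : Representation (ZMod p) G V) (A : Subgroup G) : Submodule (ZMod p) V :=
  Submodule.span (ZMod p) {w | ∃ a ∈ A, ∃ v, w = ρ a v - v}

theorem mul_apply' (ρ : Representation (ZMod p) G V) (a b : G) (v : V) : ρ (a * b) v = ρ a (ρ b v) := by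
  rw [map_mul]; rfl

theorem comS_sup_le (ρ : Representation (ZMod p) G V) (A B : Subgroup G) : comS ρ (A ⊔ B) ≤ comS ρ A ⊔ comS ρ B := by
  unfold comS
  rw [Submodule.span_le]
  rintro _ ⟨g, hg, v, rfl⟩
  let N := Submodule.span (ZMod p) {w | ∃ a ∈ A, ∃ v, w = ρ a v - v} ⊔
    Submodule.span (ZMod p) {w | ∃ a ∈ B, ∃ v, w = ρ a v - v}
  let St : Subgroup G :=
    { carrier := {g | ∀ v, ρ g v - v ∈ N}
      one_mem' := fun v => by
        rw [map_one]
        change v - v ∈ N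
        rw [sub_self]
        exact N.zero_mem
      mul_mem' := fun {a b} ha hb v => by
        have e : ρ (a * b) v - v = (ρ a (ρ b v) - ρ b v) + (ρ b v - v) := by rw [mul_apply']; abel
        rw [e]
        exact N.add_mem (ha _) (hb _)
      inv_mem' := fun {a} ha v => by
        have e : ρ a⁻¹ v - v = -(ρ a (ρ a⁻¹ v) - ρ a⁻¹ v) := by
          rw [← mul_apply', mul_inv_cancel, map_one]
          change _ = -(v - _)
          abel
        rw [e]
        exact N.neg_mem (ha _) }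
  have h3 : A ⊔ B ≤ St := sup_le (fun a ha v => Submodule.mem_sup_left (Submodule.subset_span ⟨a, ha, v, rfl⟩))
    (fun a ha v => Submodule.mem_sup_right (Submodule.subset_span ⟨a, ha, v, rfl⟩))
  exact h3 hg v

/-- an element acting quadratically has order dividing `p` -/
theorem pow_eq_one_of_quad (ρ : Representation (ZMod p) G V) (hρ : Function.Injective ρ) {g : G}
    (h : ∀ v, ρ g (ρ g v - v) = ρ g v - v) : g ^ p = 1 := by
  apply hρ
  have h1 : ∀ (k : ℕ) (v : V), ρ (g ^ k) v = v + k • (ρ g v - v) := by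
    intro k
    induction k with
    | zero => intro v; rw [pow_zero, map_one, zero_smul, add_zero]; rfl
    | succ k ih =>
      intro v
      rw [pow_succ', mul_apply', ih, map_add, map_nsmul, h, succ_nsmul]
      abel
  apply LinearMap.ext
  intro v
  rw [h1 p v, map_one]
  have h2 : p • (ρ g v - v) = 0 := by
    rw [← Nat.cast_smul_eq_nsmul (ZMod p), CharP.cast_eq_zero, zero_smul]
  rw [h2, add_zero]
  rfl

theorem card_com_conj_le (ρ : Representation (ZMod p) G V) (A : Subgroup G) (x : G) :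
    Nat.card (comS ρ (A.map (MulAut.conj x).toMonoidHom)) ≤ Nat.card (comS ρ A) := by
  have hinv : ∀ v : V, ρ x⁻¹ (ρ x v) = v := by
    intro v
    rw [← mul_apply', inv_mul_cancel, map_one]; rfl
  have h1 : comS ρ (A.map (MulAut.conj x).toMonoidHom) ≤ (comS ρ A).comap (ρ x⁻¹) := by
    unfold comS
    rw [Submodule.span_le]
    rintro _ ⟨_, ⟨a, ha, rfl⟩, v, rfl⟩
    change ρ x⁻¹ (ρ (x * a * x⁻¹) v - v) ∈ comS ρ A
    have e : ρ x⁻¹ (ρ (x * a * x⁻¹) v - v) = ρ a (ρ x⁻¹ v) - ρ x⁻¹ v := by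
      rw [map_sub, ← mul_apply', ← mul_apply']
      congr 2
      group
    rw [e]
    exact Submodule.subset_span ⟨a, ha, _, rfl⟩
  refine Nat.card_le_card_of_injective (fun w => (⟨ρ x⁻¹ w.1, h1 w.2⟩ : comS ρ A)) ?_
  intro w w' h
  have h2 : ρ x⁻¹ w.1 = ρ x⁻¹ w'.1 := congrArg Subtype.val h
  have h3 := congrArg (ρ x) h2
  rw [← mul_apply', ← mul_apply', mul_inv_cancel, map_one] at h3
  exact Subtype.ext h3

/-- the representation on `[V, J]` -/
def comRep (ρ : Representation (ZMod p) G V) (J : Subgroup G) : Representation (ZMod p) J (comS ρ J) where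
  toFun g := (ρ g).restrict (p := comS ρ J) (q := comS ρ J) (fun v hv => by
    have e : ρ g v = (ρ g v - v) + v := by abel
    rw [e]
    exact Submodule.add_mem _ (Submodule.subset_span ⟨g, g.2, v, rfl⟩) hv)
  map_one' := by
    ext v
    change ρ ((1 : J) : G) v = v
    rw [OneMemClass.coe_one, map_one]
    rfl
  map_mul' g h := by
    ext v
    change ρ ((g * h : J) : G) v = ρ (g : G) (ρ (h : G) v)
    rw [coe_mul, mul_apply']

/-- **`|A|² ≤ |[V,A]| |[V,B]|`** -/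
theorem sq_com (h3083 : B3083.{u}) (hX : SE p X) {A B : Subgroup G} (hA : IsPGroup p A) (hAX : A ≤ X)
    (hB : IsPGroup p B) (hBX : B ≤ X) (hB1 : B ≠ ⊥) (ρ : Representation (ZMod p) G V) (hρ : Function.Injective ρ) :
    Nat.card A ^ 2 ≤ Nat.card (comS ρ A) * Nat.card (comS ρ B) := by
  obtain ⟨x, X', hX', hle⟩ := exists_J hX hAX hBX hB hB1
  set A' := A.map (MulAut.conj x).toMonoidHom with hA'
  set J := A' ⊔ B with hJ
  have hA'p : IsPGroup p A' := hA.map _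
  have h1 := core_sq' h3083 hX' (A := A'.subgroupOf J) (hA'p.comap_of_injective _ J.subtype_injective) hle
    (comRep ρ J) (fun g hg => by
      apply Subtype.ext
      change (g : G) ^ p = 1
      apply pow_eq_one_of_quad ρ hρ
      intro v
      have hm : ρ (g : G) v - v ∈ comS ρ J := Submodule.subset_span ⟨g, g.2, v, rfl⟩
      have h2 : (comRep ρ J g) ⟨_, hm⟩ = ⟨_, hm⟩ := by rw [hg]; rfl
      exact congrArg Subtype.val h2)
  have e1 : Nat.card (A'.subgroupOf J) = Nat.card A := by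
    rw [Nat.card_congr (subgroupOfEquivOfLe (show A' ≤ J from le_sup_left)).toEquiv]
    exact card_map_of_injective (MulAut.conj x).injective
  rw [e1] at h1
  refine h1.trans ?_
  have h2 : Nat.card (comS ρ J) ≤ Nat.card (comS ρ A' ⊔ comS ρ B : Submodule (ZMod p) V) :=
    Nat.card_le_card_of_injective (Submodule.inclusion (comS_sup_le ρ A' B))
      (Submodule.inclusion_injective _)
  have h3 : Nat.card (comS ρ A' ⊔ comS ρ B : Submodule (ZMod p) V) ≤ Nat.card (comS ρ A') * Nat.card (comS ρ B) := by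
    rw [← Nat.card_prod]
    refine Nat.card_le_card_of_surjective
      (fun w : comS ρ A' × comS ρ B => (⟨w.1.1 + w.2.1, Submodule.add_mem_sup w.1.2 w.2.2⟩ :
        (comS ρ A' ⊔ comS ρ B : Submodule (ZMod p) V))) ?_
    rintro ⟨w, hw⟩
    obtain ⟨a, ha, b, hb, rfl⟩ := Submodule.mem_sup.1 hw
    exact ⟨(⟨a, ha⟩, ⟨b, hb⟩), rfl⟩
  exact h2.trans (h3.trans (Nat.mul_le_mul_right _ (card_com_conj_le ρ A x)))

end Rep

end Cfsg.Agent.H205.TE
end

-- part: H205/TE/P2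
section
/-!
# S5261 (hub helper802), task 5404 = TE-P2 (helper205): `StP2`, `StP2c`, `StP2w`, `StBd`

All from `B3083` (the statement of S3083; its closure is large, it is plugged in in `H205/TE/P2Fin.lean`).
-/

set_option autoImplicit false
set_option linter.unusedSectionVars false

namespace Cfsg.Agent.H205.TE

open Subgroup Cfsg Cfsg.FusionSystem Cfsg.Agent.H756.PU Cfsg.Agent.H218.Fus Cfsg.Agent.H802.TE
open Cfsg.Agent.H775.PU (B3083 act act_mk mem_ker_act ker_act_le inn_le_ker lin lin_apply lin_injective)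

universe u

/-- the group `Out_F(E)`, acting on `E / Φ(E)` -/
structure Setup {Ω : Type u} [Group Ω] (S E : Subgroup Ω) (p : ℕ) where
  K : Type u
  gK : Group K
  fK : Finite K
  V : Type u
  aV : AddCommGroup V
  mV : Module (ZMod p) V
  fV : Finite V
  ρ : Representation (ZMod p) K V
  X : Subgroup K
  ψ : normalizerIn S E →* K
  π : Additive E →+ V
  inj : Function.Injective ρ
  se : SE p X
  ker : ψ.ker = E.subgroupOf (normalizerIn S E)
  rg : ∀ a, ψ a ∈ X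
  sur : Function.Surjective π
  kerπ : ∀ e : E, π (Additive.ofMul e) = 0 ↔ e ∈ frattini E
  act : ∀ (a : normalizerIn S E) (e e' : E), (e' : Ω) = a * e * (a : Ω)⁻¹ →
    ρ (ψ a) (π (Additive.ofMul e)) = π (Additive.ofMul e')

attribute [instance] Setup.gK Setup.fK Setup.aV Setup.mV Setup.fV

variable {Ω : Type u} [Group Ω] {S E : Subgroup Ω} {p : ℕ} {Γ : Subgroup (MulAut E)}

theorem exists_setup (h : Ess S E p Γ) : Nonempty (Setup S E p) := by
  have hfE : Finite E := Cfsg.Agent.H775.PU.finE h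
  have := Fact.mk h.pp
  have := h.fin
  have hpE : IsPGroup p E := Cfsg.Agent.H775.PU.pE h
  obtain ⟨H, hHΓ, hHne, hAH, hAI, hspe⟩ := h.spe
  set C := (act Γ).ker with hC
  have hCI : ∀ g : Γ, g ∈ C ↔ (g : MulAut E) ∈ Inn E := fun g => ⟨ker_act_le h g, inn_le_ker h g⟩
  have hcomm : ∀ a b : E ⧸ frattini E, a * b = b * a := by
    intro a b
    obtain ⟨a, rfl⟩ := QuotientGroup.mk_surjective a
    obtain ⟨b, rfl⟩ := QuotientGroup.mk_surjective b
    rw [← QuotientGroup.mk_mul, ← QuotientGroup.mk_mul, QuotientGroup.eq]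
    have h1 := Cfsg.Agent.Lib.FrattiniPGroup.commutator_le_frattini hpE
      (Subgroup.commutator_mem_commutator (mem_top b⁻¹) (mem_top a⁻¹))
    rw [commutatorElement_def] at h1
    convert h1 using 1
    group
  let cg : CommGroup (E ⧸ frattini E) :=
    { (inferInstance : Group (E ⧸ frattini E)) with mul_comm := hcomm }
  have hpow : ∀ x : E ⧸ frattini E, x ^ p = 1 := by
    intro x
    obtain ⟨x, rfl⟩ := QuotientGroup.mk_surjective x
    rw [← QuotientGroup.mk_pow, QuotientGroup.eq_one_iff]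
    exact Cfsg.Agent.Lib.FrattiniPGroup.pow_mem_frattini hpE x
  obtain ⟨inst⟩ : Nonempty (Module (ZMod p) (Additive (E ⧸ frattini E))) :=
    ⟨AddCommGroup.zmodModule (n := p) (fun v => by exact hpow v.toMul)⟩
  have hSEm : SEm p C (H.subgroupOf Γ) := by
    refine ⟨?_, ?_, ?_⟩
    · intro g hg
      rw [mem_subgroupOf]
      exact hAH (inn_le_T h ((hCI g).1 hg))
    · by_contra hcon
      push Not at hcon
      exact hHne (le_antisymm hHΓ fun g hg => hcon ⟨g, hg⟩)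
    · intro q hq hqC hqp g hg hgq
      apply hqC
      rw [hCI]
      refine hspe g g.2 (fun h' => hg h') q hq hgq ?_
      obtain ⟨k, hk⟩ := hqp
      exact ⟨k, congrArg Subtype.val hk⟩
  let c : normalizerIn S E →* MulAut E :=
    (normalizerMonoidHom E).comp (inclusion (inf_le_right : normalizerIn S E ≤ normalizer (E : Set Ω)))
  have hc : ∀ (r : normalizerIn S E) (x : E), ((c r x : E) : Ω) = r * x * (r : Ω)⁻¹ := fun r x => rfl
  have hcA : ∀ r, c r ∈ autInducedBy S E := fun r =>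
    (Cfsg.Agent.H802.mem_autInducedBy_iff _ _ _).2 ⟨r, r.2.1, fun x => rfl⟩
  let cΓ : normalizerIn S E →* Γ := c.codRestrict Γ (fun r => h.indu (hcA r))
  refine ⟨{ K := Γ ⧸ C, gK := inferInstance, fK := inferInstance, V := Additive (E ⧸ frattini E),
            aV := inferInstance, mV := inst, fV := inferInstanceAs (Finite (E ⧸ frattini E)),
            ρ := lin p (QuotientGroup.kerLift (act Γ)), X := (H.subgroupOf Γ).map (QuotientGroup.mk' C),
            ψ := (QuotientGroup.mk' C).comp cΓ,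
            π := MonoidHom.toAdditive (QuotientGroup.mk' (frattini E)),
            inj := lin_injective p (QuotientGroup.kerLift_injective (act Γ)),
            se := hSEm.quot, ker := ?_, rg := ?_, sur := ?_, kerπ := ?_, act := ?_ }⟩
  · ext r
    rw [MonoidHom.mem_ker, mem_subgroupOf]
    change (QuotientGroup.mk' C) (cΓ r) = 1 ↔ _
    rw [QuotientGroup.mk'_apply, QuotientGroup.eq_one_iff, hCI]
    constructor
    · intro h1
      exact mem_of_inn h r.2.1 (α := c r) (fun e => hc r e) h1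
    · intro h1
      refine ⟨⟨r, h1⟩, ?_⟩
      ext x
      rfl
  · intro r
    exact ⟨cΓ r, mem_subgroupOf.2 (hAH (hcA r)), rfl⟩
  · intro v
    obtain ⟨e, he⟩ := QuotientGroup.mk'_surjective (frattini E) v.toMul
    exact ⟨Additive.ofMul e, he⟩
  · intro e
    exact QuotientGroup.eq_one_iff e
  · intro a e e' hee
    have h1 : e' = c a e := Subtype.ext (hee.trans (hc a e).symm)
    rw [h1]
    rfl

section use

variable (D : Setup S E p) [hp : Fact p.Prime]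

/-- the image of `A ≤ N_S(E)` -/
def Setup.im (A : Subgroup Ω) : Subgroup D.K := (A.subgroupOf (normalizerIn S E)).map D.ψ

theorem Setup.mem_im {A : Subgroup Ω} (hA : A ≤ normalizerIn S E) {a : Ω} (ha : a ∈ A) : D.ψ ⟨a, hA ha⟩ ∈ D.im A :=
  ⟨⟨a, hA ha⟩, mem_subgroupOf.2 ha, rfl⟩

theorem Setup.card_im {A : Subgroup Ω} (hA : A ≤ normalizerIn S E) : Nat.card (D.im A) = E.relIndex A := by
  have h1 := Subgroup.relIndex_ker (K := A.subgroupOf (normalizerIn S E)) D.ψ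
  rw [D.ker, relIndex_subgroupOf hA] at h1
  exact h1.symm

theorem Setup.im_le (A : Subgroup Ω) : D.im A ≤ D.X := by
  rintro _ ⟨a, -, rfl⟩
  exact D.rg a

theorem Setup.pg (h : Ess S E p Γ) (A : Subgroup Ω) : IsPGroup p (D.im A) := by
  have hpN : IsPGroup p (normalizerIn S E) :=
    h.pgr.of_injective (inclusion (inf_le_left : normalizerIn S E ≤ S)) (inclusion_injective _)
  exact (hpN.to_subgroup _).map _

theorem Setup.ne_bot {B : Subgroup Ω} (hB : B ≤ normalizerIn S E) (hBE : ¬ B ≤ E) : D.im B ≠ ⊥ := by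
  intro h1
  apply hBE
  intro b hb
  have h2 : D.ψ ⟨b, hB hb⟩ = 1 := by
    have h3 := D.mem_im hB hb
    rw [h1, mem_bot] at h3
    exact h3
  have h3 : (⟨b, hB hb⟩ : normalizerIn S E) ∈ D.ψ.ker := h2
  rw [D.ker, mem_subgroupOf] at h3
  exact h3

/-- `|[V,A]| ≤ |W : Y|` -/
theorem Setup.com_le (h : Ess S E p Γ) {A W Y : Subgroup Ω} (hA : A ≤ normalizerIn S E) (hW : W ≤ E)
    (hAW : Com A E W) (hY : Y ≤ Phi E) : Nat.card (comS D.ρ (D.im A)) ≤ Y.relIndex W := by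
  have := Cfsg.Agent.H775.PU.finE h
  let im := (Subgroup.toAddSubgroup (W.subgroupOf E)).map D.π
  have h1 : comS D.ρ (D.im A) ≤ AddSubgroup.toZModSubmodule p im := by
    unfold comS
    rw [Submodule.span_le]
    rintro _ ⟨_, ⟨a, ha, rfl⟩, v, rfl⟩
    obtain ⟨e, rfl⟩ := D.sur v
    have hae : (a : Ω) * (e.toMul : E) * (a : Ω)⁻¹ ∈ E := (mem_normalizer_iff.1 a.2.2 _).1 (e.toMul).2
    have h2 := D.act a e.toMul ⟨_, hae⟩ rfl
    change D.ρ (D.ψ a) (D.π (Additive.ofMul e.toMul)) - D.π e ∈ im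
    rw [h2]
    refine ⟨Additive.ofMul (⟨_, hae⟩ * (e.toMul)⁻¹), ?_, ?_⟩
    · exact hAW a (mem_subgroupOf.1 ha) _ (e.toMul).2
    · rw [ofMul_mul, ofMul_inv, map_add, map_neg, ← sub_eq_add_neg]
      rfl
  have h2 : Nat.card (comS D.ρ (D.im A)) ≤ Nat.card im :=
    Nat.card_le_card_of_injective (Submodule.inclusion h1) (Submodule.inclusion_injective _)
  refine h2.trans ?_
  have h3 : Nat.card im = D.π.ker.relIndex (Subgroup.toAddSubgroup (W.subgroupOf E)) :=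
    (AddSubgroup.relIndex_ker _ _).symm
  have h4 : D.π.ker = Subgroup.toAddSubgroup (frattini E) := by
    ext e
    rw [AddMonoidHom.mem_ker]
    exact D.kerπ e.toMul
  have h5 : (Subgroup.toAddSubgroup (frattini E)).relIndex (Subgroup.toAddSubgroup (W.subgroupOf E)) =
      (frattini E).relIndex (W.subgroupOf E) := Subgroup.relIndex_toAddSubgroup
  rw [h3, h4, h5, ← relIndex_subgroupOf (H := Y) hW]
  refine Nat.le_of_dvd (Nat.pos_of_ne_zero ?_) (relIndex_dvd_of_le_left _ ?_)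
  · rw [relIndex]
    exact Subgroup.index_ne_zero_of_finite
  · intro y hy
    obtain ⟨z, hz, hzy⟩ := hY (mem_subgroupOf.1 hy)
    have : z = y := Subtype.ext hzy
    rwa [← this]

end use

/-- (P2) -/
theorem stP2_of (h3083 : B3083.{u}) : StP2.{u} := by
  intro Ω _ S E p Γ h A B W W' Y Y' hA hB hBE hW hW' hAW hBW hY hY'
  have := Fact.mk h.pp
  obtain ⟨D⟩ := exists_setup h
  have h1 := sq_com h3083 D.se (D.pg h A) (D.im_le A) (D.pg h B) (D.im_le B) (D.ne_bot hB hBE) D.ρ D.inj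
  rw [D.card_im hA] at h1
  exact h1.trans (Nat.mul_le_mul (D.com_le h hA hW hAW hY) (D.com_le h hB hW' hBW hY'))

/-- (BD) -/
theorem stBd_of (h3083 : B3083.{u}) : StBd.{u} := by
  intro Ω _ S E p Γ h A Y hA hY
  have := Fact.mk h.pp
  have := Cfsg.Agent.H775.PU.finE h
  obtain ⟨D⟩ := exists_setup h
  have h1 := core_sq h3083 D.se (D.pg h A) (D.im_le A) D.ρ D.inj
  rw [D.card_im hA] at h1
  refine h1.trans ?_
  have h4 : D.π.ker = Subgroup.toAddSubgroup (frattini E) := by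
    ext e
    rw [AddMonoidHom.mem_ker]
    exact D.kerπ e.toMul
  have h5 : Nat.card D.V = (frattini E).index := by
    have h6 := AddSubgroup.index_ker D.π
    rw [h4, AddMonoidHom.range_eq_top.2 D.sur] at h6
    have h7 : (Subgroup.toAddSubgroup (frattini E)).index = (frattini E).index := Subgroup.index_toAddSubgroup
    rw [h7] at h6
    rw [h6]
    exact (Nat.card_congr (AddSubgroup.topEquiv (G := D.V)).toEquiv).symm
  rw [h5]
  refine Nat.le_of_dvd (Nat.pos_of_ne_zero ?_) (index_dvd_of_le (H := Y.subgroupOf E) ?_)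
  · exact Subgroup.index_ne_zero_of_finite
  · intro y hy
    obtain ⟨z, hz, hzy⟩ := hY (mem_subgroupOf.1 hy)
    have : z = y := Subtype.ext hzy
    rwa [← this]

end Cfsg.Agent.H205.TE
end
end

-- part: H491/FS/Real
section
set_option linter.all false
open scoped Cfsg.Agent.FastGrp

/-!
# The fusion system of a finite group with a group of automorphisms (S5261)

* `exists_real` : the fusion system over the whole group `S` induced by an injective homomorphism onto a Sylow subgroup;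
* `exists_real_aut` : the fusion system of `G0 ⋊ A`, `A` a group of automorphisms of `G0` of order prime to `p`.
-/

set_option autoImplicit false

namespace Cfsg.Agent.H491.FS

open Cfsg Cfsg.FusionSystem Cfsg.Agent.H752

universe u v

/-- the realisation in a group of the same universe -/
theorem exists_real_same {S : Type u} [Group S] {p : ℕ} [Fact p.Prime] {G0 : Type u} [Group G0] [Finite G0]
    (φ : S →* G0) (hφ : Function.Injective φ) (hS : ∃ T : Sylow p G0, (T : Subgroup G0) = φ.range) :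
    ∃ F : FusionSystem (⊤ : Subgroup S), F.IsSaturated p ∧ F.IsRealizable p ∧
      ∀ (Q : Subgroup S) (f : S → S), Mp F Q f ↔ ∃ g : G0, ∀ x ∈ Q, φ (f x) = g * φ x * g⁻¹ := by
  obtain ⟨T, hT⟩ := hS
  have : Finite S := Finite.of_injective φ hφ
  set ι : (⊤ : Subgroup S) →* G0 := φ.comp (⊤ : Subgroup S).subtype with hι
  have hιi : Function.Injective ι := fun x y h => Subtype.ext (hφ h)
  have hTι : (T : Subgroup G0) = ι.range := by
    rw [hT]
    ext y
    constructor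
    · rintro ⟨x, rfl⟩
      exact ⟨⟨x, Subgroup.mem_top x⟩, rfl⟩
    · rintro ⟨x, rfl⟩
      exact ⟨x, rfl⟩
  have hr : (H781.pullback ι hιi).IsRealizedBy ι := H781.pullback_isRealizedBy ι hιi
  have hreal : (H781.pullback ι hιi).IsRealizable p := ⟨G0, inferInstance, inferInstance, ι, hr, T, hTι⟩
  refine ⟨H781.pullback ι hιi, H781.isSaturated_of_isRealizable hreal, hreal, fun Q f => ⟨?_, ?_⟩⟩
  · rintro ⟨ψ, ⟨_, _, g, hg⟩, hψ⟩
    refine ⟨g, fun x hx => ?_⟩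
    rw [← hψ x hx]
    exact hg ⟨x, hx⟩
  · rintro ⟨g, hg⟩
    refine ⟨MonoidHom.mk' (fun x : Q => f x) ?_, ⟨le_top, fun _ => Subgroup.mem_top _, g, fun x => ?_⟩,
      fun x hx => rfl⟩
    · intro a b
      apply hφ
      rw [map_mul, hg _ a.2, hg _ b.2, hg _ (a * b).2, Subgroup.coe_mul, map_mul]
      group
    · exact hg x x.2

/-- **The fusion system over `S` induced by an injective homomorphism onto a Sylow subgroup of a finite group.** -/
theorem exists_real {S : Type u} [Group S] {p : ℕ} [Fact p.Prime] {G0 : Type v} [Group G0] [Finite G0]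
    (φ : S →* G0) (hφ : Function.Injective φ) (hS : ∃ T : Sylow p G0, (T : Subgroup G0) = φ.range) :
    ∃ F : FusionSystem (⊤ : Subgroup S), F.IsSaturated p ∧ F.IsRealizable p ∧
      ∀ (Q : Subgroup S) (f : S → S), Mp F Q f ↔ ∃ g : G0, ∀ x ∈ Q, φ (f x) = g * φ x * g⁻¹ := by
  have : Small.{u} G0 := Countable.toSmall G0
  obtain ⟨T, hT⟩ := hS
  let e : G0 ≃* Shrink.{u} G0 := (Shrink.mulEquiv (α := G0)).symm
  have : Finite (Shrink.{u} G0) := Finite.of_equiv G0 e.toEquiv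
  obtain ⟨F, h1, h2, h3⟩ := exists_real_same (G0 := Shrink.{u} G0) (e.toMonoidHom.comp φ)
    (e.injective.comp hφ) ⟨T.mapSurjective e.surjective, by
      rw [Sylow.coe_mapSurjective, hT, MonoidHom.range_comp]⟩
  refine ⟨F, h1, h2, fun Q f => (h3 Q f).trans ⟨?_, ?_⟩⟩
  · rintro ⟨g, hg⟩
    refine ⟨e.symm g, fun x hx => e.injective ?_⟩
    have := hg x hx
    simp only [map_mul, map_inv, MulEquiv.apply_symm_apply]
    exact this
  · rintro ⟨g, hg⟩
    refine ⟨e g, fun x hx => ?_⟩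
    show e (φ (f x)) = e g * e (φ x) * (e g)⁻¹
    rw [hg x hx, map_mul, map_mul, map_inv]

/-- **The fusion system of `G0 ⋊ A`.** -/
theorem exists_real_aut {S : Type u} [Group S] {p : ℕ} [Fact p.Prime] {G0 : Type v} [Group G0] [Finite G0]
    (P : Sylow p G0) (e : S ≃* ↥(P : Subgroup G0)) (A : Subgroup (MulAut G0)) (hA : (Nat.card A).Coprime p) :
    ∃ F : FusionSystem (⊤ : Subgroup S), F.IsSaturated p ∧ F.IsRealizable p ∧
      ∀ (Q : Subgroup S) (f : S → S), Mp F Q f ↔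
        ∃ a ∈ A, ∃ g : G0, ∀ x ∈ Q, ((e (f x) : ↥(P : Subgroup G0)) : G0) = g * a (e x : G0) * g⁻¹ := by
  classical
  have hp : p.Prime := Fact.out
  have : Finite S := Finite.of_equiv _ e.symm.toEquiv
  let Γ := G0 ⋊[A.subtype] A
  have eq : Γ ≃ G0 × A := SemidirectProduct.equivProd
  have hfin : Finite Γ := Finite.of_equiv _ eq.symm
  let φ : S →* Γ := (SemidirectProduct.inl : G0 →* Γ).comp ((P : Subgroup G0).subtype.comp e.toMonoidHom)
  have hφ : Function.Injective φ := by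
    intro x y h
    exact e.injective (Subtype.ext (SemidirectProduct.inl_injective h))
  have hcard : Nat.card Γ = Nat.card G0 * Nat.card A := by
    rw [Nat.card_congr eq, Nat.card_prod]
  have hcard' : Nat.card φ.range = p ^ (Nat.card Γ).factorization p := by
    have h1 : Nat.card φ.range = Nat.card P := by
      rw [← Nat.card_congr (MonoidHom.ofInjective hφ).toEquiv]
      exact Nat.card_congr e.toEquiv
    rw [h1, P.card_eq_multiplicity, hcard, Nat.factorization_mul Nat.card_pos.ne' Nat.card_pos.ne', Finsupp.add_apply,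
      Nat.factorization_eq_zero_of_not_dvd (n := Nat.card A) (fun h => ?_), add_zero]
    exact hp.one_lt.ne' (Nat.eq_one_of_dvd_coprimes hA h dvd_rfl)
  obtain ⟨F, h1, h2, h3⟩ := exists_real (p := p) φ hφ ⟨Sylow.ofCard φ.range hcard', rfl⟩
  refine ⟨F, h1, h2, fun Q f => (h3 Q f).trans ?_⟩
  have key : ∀ (g : G0) (a : A) (x : G0), (⟨g, a⟩ : Γ) * SemidirectProduct.inl x * (⟨g, a⟩ : Γ)⁻¹ =
      SemidirectProduct.inl (g * (a : MulAut G0) x * g⁻¹) := by
    intro g a x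
    have e1 : (⟨g, a⟩ : Γ) = SemidirectProduct.inl g * SemidirectProduct.inr a :=
      (SemidirectProduct.inl_left_mul_inr_right (⟨g, a⟩ : Γ)).symm
    rw [e1, mul_inv_rev, map_mul, map_mul, map_inv]
    have e2 := SemidirectProduct.inl_aut (φ := A.subtype) a x
    have e3 : A.subtype a x = (a : MulAut G0) x := rfl
    rw [e3, map_inv] at e2
    rw [e2]
    group
  constructor
  · rintro ⟨⟨g, a⟩, hg⟩
    refine ⟨a, a.2, g, fun x hx => ?_⟩
    have h4 := hg x hx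
    have h5 : φ x = SemidirectProduct.inl (e x : G0) := rfl
    rw [h5, key] at h4
    exact SemidirectProduct.inl_injective h4
  · rintro ⟨a, ha, g, hg⟩
    refine ⟨⟨g, ⟨a, ha⟩⟩, fun x hx => ?_⟩
    have h5 : φ x = SemidirectProduct.inl (e x : G0) := rfl
    rw [h5, key]
    show SemidirectProduct.inl ((e (f x) : ↥(P : Subgroup G0)) : G0) = _
    rw [hg x hx]

end Cfsg.Agent.H491.FS
end

-- part: H218/TE/LCj
section
set_option linter.all false
open scoped Cfsg.Agent.FastGrp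

/-!
# S5261 engine: StL, StConj, StCm
-/

set_option autoImplicit false
set_option linter.unusedVariables false

namespace Cfsg.Agent.H218.TE

open Cfsg Cfsg.FusionSystem Cfsg.Agent.H756.PU Cfsg.Agent.H802 Cfsg.Agent.H802.TE Cfsg.Agent.H218.Fus

universe u

/-- a normal subgroup of `Γ` containing `Aut_S(E)` is again of the form `Ess` -/
theorem ess_normal {Ω : Type*} [Group Ω] {S E : Subgroup Ω} {p : ℕ} {Γ L : Subgroup (MulAut E)} (h : Ess S E p Γ)
    (hLΓ : L ≤ Γ) (hTL : autInducedBy S E ≤ L) (hL : ∀ g ∈ Γ, ∀ x ∈ L, g * x * g⁻¹ ∈ L) : Ess S E p L := by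
  classical
  have hfin := finE h
  have hp : Fact p.Prime := ⟨h.pp⟩
  refine ⟨h.pp, h.fin, h.pgr, h.E_le, h.cent, hTL, ?_, ?_⟩
  · intro P hP hPp
    -- `T` is a Sylow subgroup of `L`
    have hTp : IsPGroup p ((autInducedBy S E).subgroupOf L) := (isPGroup_T h).comap_subtype
    obtain ⟨R, hR⟩ := hTp.exists_le_sylow
    have hRT : (autInducedBy S E).subgroupOf L = (R : Subgroup L) := by
      apply Subgroup.eq_of_le_of_card_ge hR
      obtain ⟨g, hg, hgR⟩ := h.syl ((R : Subgroup L).map L.subtype) ((Subgroup.map_subtype_le _).trans hLΓ)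
        (R.isPGroup'.map _)
      refine Nat.card_le_card_of_injective (fun x : (R : Subgroup L) => (⟨⟨g * (x : L) * g⁻¹, ?_⟩, ?_⟩ :
        (autInducedBy S E).subgroupOf L)) ?_
      · exact hL g hg _ (x : L).2
      · rw [Subgroup.mem_subgroupOf]
        exact hgR _ ⟨x, x.2, rfl⟩
      · intro x y hxy
        have h1 : g * ((x : L) : MulAut E) * g⁻¹ = g * ((y : L) : MulAut E) * g⁻¹ :=
          congrArg (fun z : (autInducedBy S E).subgroupOf L => ((z : L) : MulAut E)) hxy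
        have h2 : ((x : L) : MulAut E) = ((y : L) : MulAut E) := mul_left_cancel (mul_right_cancel h1)
        exact Subtype.ext (Subtype.ext h2)
    have hPp' : IsPGroup p (P.subgroupOf L) := hPp.comap_subtype
    obtain ⟨Q, hQ⟩ := hPp'.exists_le_sylow
    obtain ⟨g, hg⟩ := MulAction.exists_smul_eq L Q R
    refine ⟨g, g.2, fun x hx => ?_⟩
    have h1 : (⟨x, hP hx⟩ : L) ∈ (Q : Subgroup L) := hQ (Subgroup.mem_subgroupOf.2 hx)
    have h2 : g * (⟨x, hP hx⟩ : L) * g⁻¹ ∈ ((g • Q : Sylow p L) : Subgroup L) := by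
      rw [Sylow.coe_subgroup_smul]
      exact ⟨⟨x, hP hx⟩, h1, rfl⟩
    rw [hg, ← hRT, Subgroup.mem_subgroupOf] at h2
    exact h2
  · obtain ⟨H, hHΓ, hHne, hTH, hTI, hse⟩ := h.spe
    obtain ⟨g₀, hg₀L, hg₀H⟩ := exists_not_mem h hHΓ hHne hTH hTI hse hLΓ hTL hL
    refine ⟨H ⊓ L, inf_le_right, fun h1 => ?_, le_inf hTH hTL, hTI, ?_⟩
    · rw [← h1] at hg₀L
      exact hg₀H hg₀L.1
    · intro g hg hgH x hx hgx hxp
      exact hse g (hLΓ hg) (fun h1 => hgH ⟨h1, hg⟩) x hx.1 hgx.1 hxp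

/-- (L) -/
theorem stL : StL.{u} := by
  intro Ω _ S E p Γ h
  have h1 := ess_normal h (pec_le p Γ) (T_le_pec h) (fun g hg x hx => pec_conj p Γ hg hx)
  refine ⟨pElementClosure p Γ, pec_le p Γ, h1, ?_⟩
  intro N M hN hM _ _ hT γ hγ
  have h2 : pElementClosure p Γ ≤ pElementClosure p (pElementClosure p Γ) := by
    conv_lhs => unfold pElementClosure
    rw [Subgroup.closure_le]
    rintro x ⟨hx, k, hk⟩
    exact mem_pec h.pp (mem_pec h.pp hx ⟨k, by rw [← hk, pow_orderOf_eq_one]⟩) ⟨k, by rw [← hk, pow_orderOf_eq_one]⟩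
  exact tr h1 hN hM hT γ (h2 hγ)

/-- (CM) -/
theorem stCm : StCm.{u} := by
  intro Ω _ S E p Γ h Γ0 A hA hAE hcomm
  have hfin := finE h
  have hp : Fact p.Prime := ⟨h.pp⟩
  obtain ⟨H, hHΓ, hHne, hTH, hTI, hse⟩ := h.spe
  obtain ⟨a, ha, haE⟩ : ∃ a ∈ A, a ∉ E := by
    by_contra hcon
    push Not at hcon
    exact hAE hcon
  obtain ⟨α, hα, hαa⟩ := exists_isC h (hA ha)
  have hαI : α ∉ Inn E := fun h1 => haE (mem_of_inn h (hA ha).1 hαa h1)
  obtain ⟨n, hn⟩ := isPGroup_T h ⟨α, hα⟩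
  have hn : α ^ p ^ n = 1 := congrArg Subtype.val hn
  have key : ∀ g ∈ Γ, g ∉ Γ0 → g ∈ H := by
    intro g hg hg0
    by_contra hgH
    -- the commutator is in `Inn(E)`
    have hk : α * (g * α * g⁻¹) * α⁻¹ * (g * α * g⁻¹)⁻¹ ∈ Inn E := by
      refine le_inn_Γ h (K := trv Γ (inv_E Γ) (inv_phi Γ)) (fun γ hγ => hγ.1)
        (fun g hg γ hγ => trv_conj _ _ hg hγ) (isPGroup_trv_phi h Γ) ?_
      have hαΓ := h.indu hα
      have hβΓ : g * α * g⁻¹ ∈ Γ := mul_mem (mul_mem hg hαΓ) (inv_mem hg)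
      exact ⟨mul_mem (mul_mem (mul_mem hαΓ hβΓ) (inv_mem hαΓ)) (inv_mem hβΓ),
        fun e _ => hcomm g hg hg0 a ha a ha e α α hαa hαa⟩
    set β := g * α * g⁻¹ with hβ
    -- `β α β⁻¹ ∈ H`
    have hβH : β ∈ H := by
      by_contra hβH
      apply hαI
      refine hse β (mul_mem (mul_mem hg (h.indu hα)) (inv_mem hg)) hβH α (hTH hα) ?_ ⟨n, hn⟩
      have h1 : (α * β * α⁻¹ * β⁻¹)⁻¹ * α ∈ H := mul_mem (inv_mem (hTH (inn_le_T h hk))) (hTH hα)
      have e1 : (α * β * α⁻¹ * β⁻¹)⁻¹ * α = β * α * β⁻¹ := by group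
      rwa [e1] at h1
    exact hαI (hse g hg hgH α (hTH hα) hβH ⟨n, hn⟩)
  -- `Γ = H ∪ (Γ ∩ Γ0)`
  by_contra hcon
  obtain ⟨x, hxΓ, hx0⟩ : ∃ x ∈ Γ, x ∉ Γ0 := by
    by_contra h1
    push Not at h1
    exact hcon h1
  obtain ⟨y, hyΓ, hyH⟩ : ∃ y ∈ Γ, y ∉ H := by
    by_contra h1
    push Not at h1
    exact hHne (le_antisymm hHΓ h1)
  have hxH := key x hxΓ hx0
  have hy0 : y ∈ Γ0 := by
    by_contra h1
    exact hyH (key y hyΓ h1)
  have hxy0 : x * y ∉ Γ0 := fun h1 => hx0 (by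
    have h2 := mul_mem h1 (inv_mem hy0)
    rwa [mul_inv_cancel_right] at h2)
  have hxyH := key _ (mul_mem hxΓ hyΓ) hxy0
  have h2 := mul_mem (inv_mem hxH) hxyH
  rw [inv_mul_cancel_left] at h2
  exact hyH h2

/-- (CJ) -/
theorem stConj : StConj.{u} := by
  intro Ω _ S E p Γ h g hg
  set E' := E.map (MulAut.conj g).toMonoidHom with hE'
  let e : E ≃* E' := E.equivMapOfInjective (MulAut.conj g).toMonoidHom (MulAut.conj g).injective
  have he : ∀ x : E, ((e x : E') : Ω) = g * x * g⁻¹ := fun x => rfl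
  have hes : ∀ x : E', ((e.symm x : E) : Ω) = g⁻¹ * x * g := by
    intro x
    have h1 := he (e.symm x)
    rw [MulEquiv.apply_symm_apply] at h1
    rw [h1]; group
  let Φ : MulAut E ≃* MulAut E' := MulAut.congr e
  have hΦ : ∀ (α : MulAut E) (x : E'), Φ α x = e (α (e.symm x)) := fun α x => rfl
  have hmapT : ∀ α : MulAut E, α ∈ autInducedBy S E ↔ Φ α ∈ autInducedBy S E' := by
    intro α
    rw [mem_autInducedBy_iff, mem_autInducedBy_iff]
    constructor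
    · rintro ⟨x, hx, hxα⟩
      refine ⟨g * x * g⁻¹, mul_mem (mul_mem hg hx) (inv_mem hg), fun y => ?_⟩
      rw [hΦ, he, hxα, hes]; group
    · rintro ⟨x, hx, hxα⟩
      refine ⟨g⁻¹ * x * g, mul_mem (mul_mem (inv_mem hg) hx) hg, fun y => ?_⟩
      have h1 := hxα (e y)
      rw [hΦ, MulEquiv.symm_apply_apply, he, he] at h1
      have h2 : ((α y : E) : Ω) = g⁻¹ * (g * ((α y : E) : Ω) * g⁻¹) * g := by group
      rw [h2, h1]; group
  have hmapI : ∀ α : MulAut E, α ∈ Inn E ↔ Φ α ∈ Inn E' := by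
    intro α
    constructor
    · rintro ⟨x, rfl⟩
      refine ⟨e x, ?_⟩
      ext y
      rw [hΦ]
      show (e x * y * (e x)⁻¹ : E') = (e (x * e.symm y * x⁻¹) : Ω)
      rw [map_mul, map_mul, map_inv, MulEquiv.apply_symm_apply]
    · rintro ⟨x, hx⟩
      refine ⟨e.symm x, ?_⟩
      apply Φ.injective
      rw [← hx]
      ext y
      rw [hΦ]
      show (e (e.symm x * e.symm y * (e.symm x)⁻¹) : Ω) = (x * y * x⁻¹ : E')
      rw [map_mul, map_mul, map_inv, MulEquiv.apply_symm_apply, MulEquiv.apply_symm_apply]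
  refine ⟨Γ.map Φ.toMonoidHom, h.pp, h.fin, h.pgr, ?_, ?_, ?_, ?_, ?_⟩
  · rintro _ ⟨x, hx, rfl⟩
    exact mul_mem (mul_mem hg (h.E_le hx)) (inv_mem hg)
  · intro x hx hxc
    have h1 := h.cent (g⁻¹ * x * g) (mul_mem (mul_mem (inv_mem hg) hx) hg) (by
      intro y hy
      have h2 := hxc _ (Subgroup.mem_map_of_mem (MulAut.conj g).toMonoidHom hy)
      have h3 : x * (g * y * g⁻¹) = g * y * g⁻¹ * x := h2
      calc g⁻¹ * x * g * y = g⁻¹ * (x * (g * y * g⁻¹)) * g := by group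
        _ = g⁻¹ * (g * y * g⁻¹ * x) * g := by rw [h3]
        _ = y * (g⁻¹ * x * g) := by group)
    refine ⟨g⁻¹ * x * g, h1, ?_⟩
    show g * (g⁻¹ * x * g) * g⁻¹ = x
    group
  · intro α hα
    have h1 : Φ (Φ.symm α) ∈ autInducedBy S E' := by rwa [MulEquiv.apply_symm_apply]
    exact ⟨Φ.symm α, h.indu ((hmapT _).2 h1), MulEquiv.apply_symm_apply Φ α⟩
  · intro P hP hPp
    obtain ⟨x, hx, hxP⟩ := h.syl (P.comap Φ.toMonoidHom) (by
      intro α hα
      obtain ⟨β, hβ, hβα⟩ := hP hα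
      obtain rfl : β = α := Φ.injective hβα
      exact hβ) (hPp.comap_of_injective Φ.toMonoidHom Φ.injective)
    refine ⟨Φ x, ⟨x, hx, rfl⟩, fun y hy => ?_⟩
    have h1 : Φ.symm y ∈ P.comap Φ.toMonoidHom := by
      rw [Subgroup.mem_comap]
      show Φ (Φ.symm y) ∈ P
      rwa [MulEquiv.apply_symm_apply]
    have h2 := (hmapT _).1 (hxP _ h1)
    rw [map_mul, map_mul, map_inv, MulEquiv.apply_symm_apply] at h2
    exact h2
  · obtain ⟨H, hHΓ, hHne, hTH, hTI, hse⟩ := h.spe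
    refine ⟨H.map Φ.toMonoidHom, Subgroup.map_mono hHΓ, ?_, ?_, ?_, ?_⟩
    · intro h1
      exact hHne (Subgroup.map_injective Φ.injective h1)
    · intro α hα
      have h1 : Φ (Φ.symm α) ∈ autInducedBy S E' := by rwa [MulEquiv.apply_symm_apply]
      exact ⟨Φ.symm α, hTH ((hmapT _).2 h1), MulEquiv.apply_symm_apply Φ α⟩
    · intro h1
      apply hTI
      intro α hα
      exact (hmapI α).2 (h1 ((hmapT α).1 hα))
    · rintro _ ⟨x, hx, rfl⟩ hxH _ ⟨y, hy, rfl⟩ hxy ⟨k, hk⟩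
      refine (hmapI y).1 (hse x hx (fun h1 => hxH ⟨x, h1, rfl⟩) y hy ?_ ⟨k, ?_⟩)
      · obtain ⟨z, hz, hze⟩ := hxy
        have h1 : Φ z = Φ (x * y * x⁻¹) := by
          rw [map_mul, map_mul, map_inv]; exact hze
        rw [← Φ.injective h1]
        exact hz
      · apply Φ.injective
        rw [map_pow, map_one]
        exact hk

end Cfsg.Agent.H218.TE
end
end
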